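import Cfsg.Agent.OddFour.Coprime

/-!
Four-transitive actions with four point stabilisers of odd order: involutions with prescribed action.
-/

set_option autoImplicit false

namespace Cfsg.Lib.OddFour

open MulAction

variable {G : Type*} [Group G] {α : Type*} [MulAction G α]

/-- The stabiliser of a quadruple. -/
def st (G : Type*) [Group G] [MulAction G α] (X : Fin 4 → α) : Subgroup G := ⨅ i, stabilizer G (X i)

theorem mem_st {X : Fin 4 → α} {g : G} : g ∈ st G X ↔ ∀ i, g • X i = X i := by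
  simp [st, Subgroup.mem_iInf, mem_stabilizer_iff]

/-- The hypotheses: four-transitivity and odd four point stabilisers. -/
structure Hyp (G : Type*) [Group G] (α : Type*) [MulAction G α] : Prop where
  trans : ∀ X Y : Fin 4 → α, Function.Injective X → Function.Injective Y → ∃ g : G, ∀ i, g • X i = Y i
  odd : ∀ X : Fin 4 → α, Function.Injective X → Odd (Nat.card (st G X))

theorem inj4 {p q r s : α} (h1 : p ≠ q) (h2 : p ≠ r) (h3 : p ≠ s) (h4 : q ≠ r) (h5 : q ≠ s) (h6 : r ≠ s) :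
    Function.Injective ![p, q, r, s] := by
  intro i j hij
  fin_cases i <;> fin_cases j <;> simp_all [eq_comm]

theorem conj_mem_st {X : Fin 4 → α} {a : G} (ha : a * a = 1) (hX : ∀ i, ∃ j, a • X i = X j) :
    ∀ h ∈ st G X, a * h * a ∈ st G X := by
  intro h hh
  refine mem_st.2 fun i => ?_
  obtain ⟨j, hj⟩ := hX i
  rw [mul_smul, mul_smul, hj, mem_st.1 hh j, ← hj, ← mul_smul, ha, one_smul]

theorem fix_of_comm {a g : G} (h : g * a = a * g) {x : α} (hx : a • x = x) : a • g • x = g • x := by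
  rw [← mul_smul, ← h, mul_smul, hx]

section Involutive

theorem exists_common_fixed {β : Type*} [Finite β] (hodd : Odd (Nat.card β)) {f g : β → β}
    (hf : Function.Involutive f) (hg : Function.Involutive g) (hfg : ∀ x, f (g x) = g (f x)) :
    ∃ x, f x = x ∧ g x = x := by
  classical
  haveI := Fintype.ofFinite β
  haveI : Fact (Nat.Prime 2) := ⟨Nat.prime_two⟩
  rw [Nat.card_eq_fintype_card] at hodd
  let F : Function.End β := f
  have h2 : F ^ 2 ^ 1 = 1 := by
    rw [pow_one, sq]; funext x; exact hf x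
  have hm := Equiv.Perm.card_fixedPoints_modEq (p := 2) (n := 1) h2
  let g' : {x // x ∈ Function.fixedPoints f} → {x // x ∈ Function.fixedPoints f} := fun x =>
    ⟨g x.1, show f (g x.1) = g x.1 by rw [hfg, x.2]⟩
  have hg' : Function.Involutive g' := fun x => Subtype.ext (hg x.1)
  obtain ⟨x, hx⟩ := Equiv.Perm.exists_fixed_point_of_prime (p := 2) (n := 1)
    (α := {x // x ∈ Function.fixedPoints f})
    (by
      intro hd
      rw [Nat.odd_iff] at hodd
      have := Nat.mod_eq_zero_of_dvd hd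
      have e : Fintype.card (Function.fixedPoints F) = Fintype.card {x // x ∈ Function.fixedPoints f} :=
        Fintype.card_congr (Equiv.refl _)
      unfold Nat.ModEq at hm
      omega)
    (σ := hg'.toPerm) (by rw [pow_one, sq]; ext y; exact congrArg Subtype.val (hg' y))
  exact ⟨x.1, x.2, congrArg Subtype.val hx⟩

end Involutive

theorem Hyp.odd_maps (hyp : Hyp G α) {X Y : Fin 4 → α} (hX : Function.Injective X) (hY : Function.Injective Y) :
    Odd (Nat.card {g : G // ∀ i, g • X i = Y i}) := by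
  obtain ⟨g₀, hg₀⟩ := hyp.trans X Y hX hY
  rw [← Nat.card_congr (α := st G X)]
  · exact hyp.odd X hX
  refine { toFun := fun h => ⟨g₀ * h.1, fun i => by rw [mul_smul, mem_st.1 h.2 i, hg₀ i]⟩
           invFun := fun g => ⟨g₀⁻¹ * g.1, mem_st.2 fun i => by rw [mul_smul, g.2 i, inv_smul_eq_iff, hg₀ i]⟩
           left_inv := fun h => Subtype.ext (inv_mul_cancel_left g₀ h.1)
           right_inv := fun g => Subtype.ext (mul_inv_cancel_left g₀ g.1) }

variable [Finite G]

/-- An element mapping `X` to `Y` intertwining two pairs of commuting involutions. -/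
theorem Hyp.exists_intertwining₂ (hyp : Hyp G α) {X Y : Fin 4 → α} (hX : Function.Injective X)
    (hY : Function.Injective Y) {a₁ b₁ a₂ b₂ : G} (ha₁ : a₁ * a₁ = 1) (hb₁ : b₁ * b₁ = 1) (ha₂ : a₂ * a₂ = 1)
    (hb₂ : b₂ * b₂ = 1) (hca : a₁ * a₂ = a₂ * a₁) (hcb : b₁ * b₂ = b₂ * b₁) {σ₁ σ₂ : Fin 4 → Fin 4}
    (hσ₁ : ∀ i, σ₁ (σ₁ i) = i) (hσ₂ : ∀ i, σ₂ (σ₂ i) = i) (e₁ : ∀ i, a₁ • X i = X (σ₁ i))
    (f₁ : ∀ i, b₁ • Y i = Y (σ₁ i)) (e₂ : ∀ i, a₂ • X i = X (σ₂ i)) (f₂ : ∀ i, b₂ • Y i = Y (σ₂ i)) :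
    ∃ g : G, (∀ i, g • X i = Y i) ∧ g * a₁ = b₁ * g ∧ g * a₂ = b₂ * g := by
  let φ : ∀ (a b : G) (σ : Fin 4 → Fin 4), (∀ i, σ (σ i) = i) → (∀ i, a • X i = X (σ i)) →
      (∀ i, b • Y i = Y (σ i)) → {g : G // ∀ i, g • X i = Y i} → {g : G // ∀ i, g • X i = Y i} :=
    fun a b σ hσ e f g => ⟨b * g.1 * a, fun i => by rw [mul_smul, mul_smul, e, g.2, f, hσ]⟩
  have key : ∀ {a b g : G}, a * a = 1 → b * b = 1 → b * (b * g * a) * a = g := fun {a b g} ha hb => by
    calc b * (b * g * a) * a = (b * b) * g * (a * a) := by group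
      _ = g := by rw [ha, hb, one_mul, mul_one]
  have comm : ∀ g : G, b₁ * (b₂ * g * a₂) * a₁ = b₂ * (b₁ * g * a₁) * a₂ := fun g => by
    calc b₁ * (b₂ * g * a₂) * a₁ = (b₁ * b₂) * g * (a₂ * a₁) := by group
      _ = (b₂ * b₁) * g * (a₁ * a₂) := by rw [hcb, hca]
      _ = _ := by group
  obtain ⟨g, h1, h2⟩ := exists_common_fixed (hyp.odd_maps hX hY)
    (f := φ a₁ b₁ σ₁ hσ₁ e₁ f₁) (g := φ a₂ b₂ σ₂ hσ₂ e₂ f₂)
    (fun g => Subtype.ext (key ha₁ hb₁)) (fun g => Subtype.ext (key ha₂ hb₂)) (fun g => Subtype.ext (comm g.1))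
  refine ⟨g.1, g.2, ?_, ?_⟩
  · have e : b₁ * g.1 * a₁ = g.1 := congrArg Subtype.val h1
    calc g.1 * a₁ = (b₁ * b₁) * (g.1 * a₁) := by rw [hb₁, one_mul]
      _ = b₁ * (b₁ * g.1 * a₁) := by group
      _ = b₁ * g.1 := by rw [e]
  · have e : b₂ * g.1 * a₂ = g.1 := congrArg Subtype.val h2
    calc g.1 * a₂ = (b₂ * b₂) * (g.1 * a₂) := by rw [hb₂, one_mul]
      _ = b₂ * (b₂ * g.1 * a₂) := by group
      _ = b₂ * g.1 := by rw [e]

/-- An element mapping `X` to `Y` intertwining two involutions. -/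
theorem Hyp.exists_intertwining (hyp : Hyp G α) {X Y : Fin 4 → α} (hX : Function.Injective X)
    (hY : Function.Injective Y) {a b : G} (ha : a * a = 1) (hb : b * b = 1) {σ : Fin 4 → Fin 4}
    (hσ : ∀ i, σ (σ i) = i) (e : ∀ i, a • X i = X (σ i)) (f : ∀ i, b • Y i = Y (σ i)) :
    ∃ g : G, (∀ i, g • X i = Y i) ∧ g * a = b * g := by
  obtain ⟨g, h1, h2, -⟩ := hyp.exists_intertwining₂ hX hY ha hb ha hb rfl rfl hσ hσ e f e f
  exact ⟨g, h1, h2⟩

/-- An involution with prescribed action on a quadruple, commuting with a given one. -/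
theorem Hyp.exists_involution (hyp : Hyp G α) {X : Fin 4 → α} (hX : Function.Injective X) {a : G}
    (ha : a * a = 1) {σ τ : Fin 4 → Fin 4} (hσ : ∀ i, σ (σ i) = i) (hτ : ∀ i, τ (τ i) = i)
    (hστ : ∀ i, σ (τ (σ i)) = τ i) (e : ∀ i, a • X i = X (σ i)) :
    ∃ t : G, t * t = 1 ∧ t * a = a * t ∧ ∀ i, t • X i = X (τ i) := by
  have hY : Function.Injective fun i => X (τ i) :=
    hX.comp (Function.Involutive.injective hτ)
  have hainv : a⁻¹ = a := inv_eq_of_mul_eq_one_left ha
  obtain ⟨g, h1, h2⟩ := exists_common_fixed (hyp.odd_maps hX hY)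
    (f := fun g => ⟨a * g.1 * a, fun i => by rw [mul_smul, mul_smul, e, g.2, e, hστ]⟩)
    (g := fun g => ⟨g.1⁻¹, fun i => by rw [inv_smul_eq_iff, g.2, hτ]⟩)
    (fun g => Subtype.ext (conj_conj ha g.1)) (fun g => Subtype.ext (inv_inv g.1))
    (fun g => Subtype.ext (conj_inv ha g.1))
  have e1 : a * g.1 * a = g.1 := congrArg Subtype.val h1
  have e2 : g.1⁻¹ = g.1 := congrArg Subtype.val h2
  refine ⟨g.1, ?_, (Subgroup.mem_centralizer_singleton_iff).1 ((conj_fix_iff ha _).2 e1), g.2⟩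
  calc g.1 * g.1 = g.1⁻¹ * g.1 := by rw [e2]
    _ = 1 := inv_mul_cancel _

theorem Hyp.eq_one_of_fix_four (hyp : Hyp G α) {X : Fin 4 → α} (hX : Function.Injective X) {g : G}
    (hg : g * g = 1) (h : ∀ i, g • X i = X i) : g = 1 := by
  have hm : g ∈ st G X := mem_st.2 h
  exact sq_cancel (hyp.odd X hX) hm (one_mem _) (by rw [hg, one_mul])

/-- In a group of odd order an element stabilising a pair of points fixes both. -/
theorem fix_of_swap {K : Subgroup G} (hodd : Odd (Nat.card K)) {h : G} (hh : h ∈ K) {u v : α}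
    (hu : h • u = u ∨ h • u = v) (hv : h • v = u ∨ h • v = v) : h • u = u := by
  rcases hu with hu | hu
  · exact hu
  rcases hv with hv | hv
  · have key : ∀ k : ℕ, h ^ (2 * k) • u = u := by
      intro k
      induction k with
      | zero => simp
      | succ k ih => rw [Nat.mul_succ, pow_add, mul_smul, sq, mul_smul, hu, hv, ih]
    obtain ⟨k, hk⟩ := hodd
    have h1 := congrArg (fun z : G => z • u) (pow_card_eq K hh)
    simp only [hk, one_smul, pow_succ, mul_smul, hu] at h1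
    have h2 := key k
    have : h • u = u := by
      calc h • u = h • (h ^ (2 * k) • u) := by rw [h2]
        _ = h ^ (2 * k + 1) • u := by rw [← mul_smul, ← pow_succ']
        _ = u := by rw [← hk, pow_card_eq K hh, one_smul]
    exact this
  · have := MulAction.injective h (show h • u = h • v by rw [hu, hv])
    rw [hu, ← this]

section Orbit

variable [Fintype α]

open scoped Classical in
/-- The orbit of a point under a subgroup. -/
noncomputable def orb (K : Subgroup G) (x : α) : Finset α := Finset.univ.filter fun y => ∃ g ∈ K, g • x = y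

theorem mem_orb {K : Subgroup G} {x y : α} : y ∈ orb K x ↔ ∃ g ∈ K, g • x = y := by
  simp [orb]

theorem self_mem_orb (K : Subgroup G) (x : α) : x ∈ orb K x := mem_orb.2 ⟨1, one_mem _, one_smul _ _⟩

theorem orb_eq_of_mem {K : Subgroup G} {x y : α} (h : y ∈ orb K x) : orb K y = orb K x := by
  obtain ⟨g, hg, rfl⟩ := mem_orb.1 h
  ext z
  simp only [mem_orb]
  constructor
  · rintro ⟨k, hk, rfl⟩; exact ⟨k * g, mul_mem hk hg, by rw [mul_smul]⟩
  · rintro ⟨k, hk, rfl⟩; exact ⟨k * g⁻¹, mul_mem hk (inv_mem hg), by rw [mul_smul, inv_smul_smul]⟩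

theorem orb_mono {K L : Subgroup G} (h : K ≤ L) (x : α) : orb K x ⊆ orb L x := fun _ hy => by
  obtain ⟨g, hg, rfl⟩ := mem_orb.1 hy
  exact mem_orb.2 ⟨g, h hg, rfl⟩

theorem card_orb (K : Subgroup G) (x : α) :
    (orb K x).card * Nat.card (K ⊓ stabilizer G x : Subgroup G) = Nat.card K := by
  classical
  haveI : Fintype K := Fintype.ofFinite K
  have h := card_orbit_mul_card_stabilizer_eq_card_group K x
  rw [← Nat.card_eq_fintype_card, ← Nat.card_eq_fintype_card, ← Nat.card_eq_fintype_card] at h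
  rw [← h, ← Nat.card_eq_finsetCard]
  congr 1
  · refine Nat.card_congr (Equiv.subtypeEquivRight fun y => ?_)
    rw [mem_orb]
    exact ⟨fun ⟨g, hg, e⟩ => ⟨⟨g, hg⟩, e⟩, fun ⟨⟨g, hg⟩, e⟩ => ⟨g, hg, e⟩⟩
  · exact Nat.card_congr
      { toFun := fun g => ⟨⟨g.1, g.2.1⟩, g.2.2⟩
        invFun := fun g => ⟨g.1.1, g.1.2, g.2⟩
        left_inv := fun _ => rfl
        right_inv := fun _ => rfl }

theorem odd_card_orb {K : Subgroup G} (hodd : Odd (Nat.card K)) (x : α) : Odd (orb K x).card :=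
  hodd.of_dvd_nat ⟨_, (card_orb K x).symm⟩

theorem map_orb {K : Subgroup G} {a : G} (ha : a * a = 1) (hn : ∀ h ∈ K, a * h * a ∈ K) (x : α) {y : α}
    (hy : y ∈ orb K x) : a • y ∈ orb K (a • x) := by
  obtain ⟨g, hg, rfl⟩ := mem_orb.1 hy
  refine mem_orb.2 ⟨a * g * a, hn g hg, ?_⟩
  rw [← mul_smul, mul_assoc, ha, mul_one, mul_smul]

variable [DecidableEq α]

theorem exists_fixed_of_odd {S : Finset α} (hodd : Odd S.card) {a : G} (ha : a * a = 1)
    (hS : ∀ x ∈ S, a • x ∈ S) : ∃ x ∈ S, a • x = x := by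
  obtain ⟨⟨x, hx⟩, h, -⟩ := exists_common_fixed (β := S) (by rwa [Nat.card_eq_finsetCard])
    (f := fun x => ⟨a • x.1, hS _ x.2⟩) (g := id)
    (fun x => Subtype.ext (by show a • a • x.1 = x.1; rw [← mul_smul, ha, one_smul])) (fun _ => rfl) (fun _ => rfl)
  exact ⟨x, hx, congrArg Subtype.val h⟩

/-- The fixed points. -/
def fixSet (α : Type*) [MulAction G α] [Fintype α] [DecidableEq α] (g : G) : Finset α :=
  Finset.univ.filter fun x => g • x = x

theorem mem_fixSet {g : G} {x : α} : x ∈ fixSet α g ↔ g • x = x := by simp [fixSet]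

theorem card_fixSet_mod {a : G} (ha : a * a = 1) : (fixSet α a).card % 2 = Fintype.card α % 2 := by
  classical
  haveI : Fact (Nat.Prime 2) := ⟨Nat.prime_two⟩
  let F : Function.End α := fun x => a • x
  have h2 : F ^ 2 ^ 1 = 1 := by
    rw [pow_one, sq]
    funext x
    show a • a • x = x
    rw [← mul_smul, ha, one_smul]
  have hm := Equiv.Perm.card_fixedPoints_modEq (p := 2) (n := 1) h2
  rw [hm, ← Nat.card_eq_fintype_card, ← Nat.card_eq_finsetCard]
  congr 1
  exact Nat.card_congr (Equiv.subtypeEquivRight fun x => mem_fixSet)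

theorem Hyp.card_fixSet_le (hyp : Hyp G α) {a : G} (ha : a * a = 1) (hne : a ≠ 1) :
    (fixSet α a).card ≤ 3 := by
  by_contra hcon
  obtain ⟨T, hT, hTc⟩ := Finset.exists_subset_card_eq (n := 4) (s := fixSet α a) (by omega)
  refine hne (hyp.eq_one_of_fix_four (X := fun i => ((T.equivFinOfCardEq hTc).symm i).1)
    (Subtype.val_injective.comp (Equiv.injective _)) ha fun i => ?_)
  exact mem_fixSet.1 (hT ((T.equivFinOfCardEq hTc).symm i).2)

end Orbit

end Cfsg.Lib.OddFour
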