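import Mathlib

/-!
A four group acting on a group of odd order: the order formula of Brauer and Wielandt.
-/

set_option autoImplicit false

namespace Cfsg.Lib.OddFour

variable {G : Type*} [Group G] [Finite G]

/-- The square root of an element in a subgroup of odd order. -/
noncomputable def root (H : Subgroup G) (h : G) : G := h ^ ((Nat.card H + 1) / 2)

theorem pow_card_eq (H : Subgroup G) {h : G} (hh : h ∈ H) : h ^ Nat.card H = 1 := by
  exact congrArg Subtype.val (pow_card_eq_one' (x := (⟨h, hh⟩ : H)))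

theorem root_mem {H : Subgroup G} {h : G} (hh : h ∈ H) : root H h ∈ H := pow_mem hh _

theorem root_mul_root {H : Subgroup G} (hodd : Odd (Nat.card H)) {h : G} (hh : h ∈ H) :
    root H h * root H h = h := by
  obtain ⟨k, hk⟩ := hodd
  rw [root, ← pow_add, show (Nat.card H + 1) / 2 + (Nat.card H + 1) / 2 = Nat.card H + 1 by omega,
    pow_succ, pow_card_eq H hh, one_mul]

theorem root_unique {H : Subgroup G} (hodd : Odd (Nat.card H)) {h s : G} (hs : s ∈ H) (hss : s * s = h) :
    s = root H h := by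
  obtain ⟨k, hk⟩ := hodd
  rw [root, ← hss, ← sq, ← pow_mul, show 2 * ((Nat.card H + 1) / 2) = Nat.card H + 1 by omega,
    pow_succ, pow_card_eq H hs, one_mul]

theorem sq_cancel {H : Subgroup G} (hodd : Odd (Nat.card H)) {s t : G} (hs : s ∈ H) (ht : t ∈ H)
    (h : s * s = t * t) : s = t :=
  (root_unique hodd hs h).trans (root_unique hodd ht rfl).symm

theorem conj_mul {a : G} (ha : a * a = 1) (x y : G) : a * (x * y) * a = a * x * a * (a * y * a) := by
  calc a * (x * y) * a = a * x * 1 * y * a := by group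
    _ = a * x * (a * a) * y * a := by rw [ha]
    _ = _ := by group

theorem conj_inv {a : G} (ha : a * a = 1) (x : G) : a * x⁻¹ * a = (a * x * a)⁻¹ := by
  have e : a⁻¹ = a := inv_eq_of_mul_eq_one_left ha
  rw [mul_inv_rev, mul_inv_rev, e, mul_assoc]

theorem conj_conj {a : G} (ha : a * a = 1) (x : G) : a * (a * x * a) * a = x := by
  calc a * (a * x * a) * a = (a * a) * x * (a * a) := by group
    _ = x := by rw [ha, one_mul, mul_one]

theorem conj_fix_iff {a : G} (ha : a * a = 1) (x : G) : x ∈ Subgroup.centralizer {a} ↔ a * x * a = x := by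
  rw [Subgroup.mem_centralizer_singleton_iff]
  constructor
  · intro h
    rw [mul_assoc, h, ← mul_assoc, ha, one_mul]
  · intro h
    calc x * a = a * x * a * a := by rw [h]
      _ = a * x * (a * a) := by group
      _ = a * x := by rw [ha, mul_one]

/-- An element splits uniquely as a centralised times an inverted element. -/
theorem card_eq_fix_mul_inverted {H : Subgroup G} (hodd : Odd (Nat.card H)) {a : G} (ha : a * a = 1)
    (hn : ∀ h ∈ H, a * h * a ∈ H) :
    Nat.card H = Nat.card (H ⊓ Subgroup.centralizer {a} : Subgroup G) *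
      Nat.card {j : G // j ∈ H ∧ a * j * a = j⁻¹} := by
  rw [← Nat.card_prod]
  symm
  refine Nat.card_congr (Equiv.ofBijective (fun z => (⟨z.1.1 * z.2.1, mul_mem z.1.2.1 z.2.2.1⟩ : H)) ⟨?_, ?_⟩)
  · rintro ⟨⟨c, hc, hca⟩, ⟨j, hj, hja⟩⟩ ⟨⟨c', hc', hca'⟩, ⟨j', hj', hja'⟩⟩ e
    have e1 : c * j = c' * j' := congrArg Subtype.val e
    have e2 := congrArg (fun x => (a * x * a)⁻¹ * x) e1
    simp only [conj_mul ha, (conj_fix_iff ha c).1 hca, (conj_fix_iff ha c').1 hca', hja, hja', mul_inv_rev,
      inv_inv, mul_assoc, inv_mul_cancel_left] at e2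
    obtain rfl := sq_cancel hodd hj hj' e2
    obtain rfl := mul_right_cancel e1
    rfl
  · rintro ⟨h, hh⟩
    set u := (a * h * a)⁻¹ * h with hu
    have huH : u ∈ H := mul_mem (inv_mem (hn h hh)) hh
    set j := root H u with hj
    have hjH : j ∈ H := root_mem huH
    have hju : a * u * a = u⁻¹ := by
      rw [hu, conj_mul ha, conj_inv ha, conj_conj ha, mul_inv_rev, inv_inv]
    have hja : a * j * a = j⁻¹ := by
      refine sq_cancel hodd (hn j hjH) (inv_mem hjH) ?_
      rw [← conj_mul ha, root_mul_root hodd huH, hju, ← root_mul_root hodd huH, mul_inv_rev]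
    have hsq : j * j = (a * h * a)⁻¹ * h := root_mul_root hodd huH
    refine ⟨(⟨h * j⁻¹, H.mul_mem hh (H.inv_mem hjH), (conj_fix_iff ha _).2 ?_⟩, ⟨j, hjH, hja⟩),
      Subtype.ext (inv_mul_cancel_right h j)⟩
    rw [conj_mul ha, conj_inv ha, hja, inv_inv, eq_mul_inv_iff_mul_eq, mul_assoc, hsq, mul_inv_cancel_left]

/-- The inverted elements split along a second involution. -/
theorem card_inverted {H : Subgroup G} (hodd : Odd (Nat.card H)) {a b : G} (ha : a * a = 1) (hb : b * b = 1)
    (hab : a * b = b * a) (hna : ∀ h ∈ H, a * h * a ∈ H) (hnb : ∀ h ∈ H, b * h * b ∈ H) :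
    Nat.card {j : G // j ∈ H ∧ a * j * a = j⁻¹} =
      Nat.card {j : G // j ∈ H ∧ a * j * a = j⁻¹ ∧ b * j * b = j} *
        Nat.card {j : G // j ∈ H ∧ a * j * a = j⁻¹ ∧ b * j * b = j⁻¹} := by
  rw [← Nat.card_prod]
  symm
  refine Nat.card_congr (Equiv.ofBijective (fun z => (⟨z.2.1 * z.1.1 * z.2.1,
    mul_mem (mul_mem z.2.2.1 z.1.2.1) z.2.2.1, by
      rw [conj_mul ha, conj_mul ha, z.1.2.2.1, z.2.2.2.1, mul_inv_rev, mul_inv_rev, mul_assoc]⟩ :
    {j : G // j ∈ H ∧ a * j * a = j⁻¹})) ⟨?_, ?_⟩)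
  · rintro ⟨⟨c, hc, hca, hcb⟩, ⟨j, hj, hja, hjb⟩⟩ ⟨⟨c', hc', hca', hcb'⟩, ⟨j', hj', hja', hjb'⟩⟩ e
    have e1 : j * c * j = j' * c' * j' := congrArg Subtype.val e
    have e2 : b * (j * c * j) * b = b * (j' * c' * j') * b := by rw [e1]
    rw [conj_mul hb, conj_mul hb, hcb, hjb, conj_mul hb, conj_mul hb, hcb', hjb'] at e2
    set η := root H (j⁻¹ * c * j⁻¹) with hη
    have hyH : j⁻¹ * c * j⁻¹ ∈ H := mul_mem (mul_mem (inv_mem hj) hc) (inv_mem hj)
    have hηH : η ∈ H := root_mem hyH
    have hηη : η * η = j⁻¹ * c * j⁻¹ := root_mul_root hodd hyH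
    have k1 : (η * (j * j) * η) * (η * (j * j) * η) = η * (j * c * j) * η := by
      calc _ = η * (j * j) * (η * η) * (j * j) * η := by group
        _ = _ := by rw [hηη]; group
    have k2 : (η * (j' * j') * η) * (η * (j' * j') * η) = η * (j' * c' * j') * η := by
      calc _ = η * (j' * j') * (η * η) * (j' * j') * η := by group
        _ = _ := by rw [hηη, e2]; group
    have k3 := sq_cancel hodd (mul_mem (mul_mem hηH (mul_mem hj hj)) hηH)
      (mul_mem (mul_mem hηH (mul_mem hj' hj')) hηH) (by rw [k1, k2, e1])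
    obtain rfl := sq_cancel hodd hj hj' (mul_left_cancel (mul_right_cancel k3))
    obtain rfl := mul_left_cancel (mul_right_cancel e1)
    rfl
  · rintro ⟨x, hx, hxa⟩
    set y := b * x * b with hy
    have hyH : y ∈ H := hnb x hx
    have hya : a * y * a = y⁻¹ := by
      calc a * y * a = (a * b) * x * (b * a) := by rw [hy]; group
        _ = (b * a) * x * (a * b) := by rw [hab]
        _ = b * (a * x * a) * b := by group
        _ = y⁻¹ := by rw [hxa, conj_inv hb, hy]
    set η := root H y with hη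
    have hηH : η ∈ H := root_mem hyH
    have hηη : η * η = y := root_mul_root hodd hyH
    have hzH : η * x * η ∈ H := mul_mem (mul_mem hηH hx) hηH
    set σ := root H (η * x * η) with hσ
    have hσH : σ ∈ H := root_mem hzH
    have hσσ : σ * σ = η * x * η := root_mul_root hodd hzH
    set J := η⁻¹ * σ * η⁻¹ with hJ
    have hJH : J ∈ H := mul_mem (mul_mem (inv_mem hηH) hσH) (inv_mem hηH)
    have hJy : J * y * J = x := by
      calc J * y * J = η⁻¹ * σ * η⁻¹ * (η * η) * (η⁻¹ * σ * η⁻¹) := by rw [hJ, hηη]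
        _ = η⁻¹ * (σ * σ) * η⁻¹ := by group
        _ = x := by rw [hσσ]; group
    have uniq : ∀ K ∈ H, K * y * K = x → K = J := by
      intro K hK hKy
      have e : (η * K * η) * (η * K * η) = σ * σ := by
        calc (η * K * η) * (η * K * η) = η * (K * (η * η) * K) * η := by group
          _ = σ * σ := by rw [hηη, hKy, hσσ]
      have := sq_cancel hodd (mul_mem (mul_mem hηH hK) hηH) hσH e
      rw [hJ, ← this]; group
    have hJa : a * J * a = J⁻¹ := by
      have e := congrArg (fun z => a * z * a) hJy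
      simp only [conj_mul ha, hya, hxa] at e
      refine inv_injective ?_
      rw [inv_inv]
      refine uniq _ (inv_mem (hna J hJH)) ?_
      have e' := congrArg Inv.inv e
      simp only [mul_inv_rev, inv_inv] at e' ⊢
      rw [← e']; group
    have hJb : b * J * b = J⁻¹ := by
      have e := congrArg (fun z => b * z * b) hJy
      simp only [conj_mul hb] at e
      rw [show b * y * b = x by rw [hy, conj_conj hb], ← hy] at e
      refine inv_injective ?_
      rw [inv_inv]
      refine uniq _ (inv_mem (hnb J hJH)) ?_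
      rw [← e]; group
    set j := root H J with hj
    have hjH : j ∈ H := root_mem hJH
    have hjj : j * j = J := root_mul_root hodd hJH
    have hja : a * j * a = j⁻¹ :=
      sq_cancel hodd (hna j hjH) (inv_mem hjH) (by rw [← conj_mul ha, hjj, hJa, ← hjj, mul_inv_rev])
    have hjb : b * j * b = j⁻¹ :=
      sq_cancel hodd (hnb j hjH) (inv_mem hjH) (by rw [← conj_mul hb, hjj, hJb, ← hjj, mul_inv_rev])
    have hxj : x = j * j * y * (j * j) := by rw [hjj, hJy]
    refine ⟨(⟨j * y * j, mul_mem (mul_mem hjH hyH) hjH, ?_, ?_⟩, ⟨j, hjH, hja, hjb⟩), Subtype.ext ?_⟩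
    · rw [conj_mul ha, conj_mul ha, hja, hya]; group
    · rw [conj_mul hb, conj_mul hb, hjb, show b * y * b = x by rw [hy, conj_conj hb], hxj]; group
    · show j * (j * y * j) * j = x
      rw [hxj]; group

/-- The order formula for a four group `{1, a, b, a * b}` acting on a subgroup of odd order. -/
theorem card_four_group {H : Subgroup G} (hodd : Odd (Nat.card H)) {a b : G} (ha : a * a = 1) (hb : b * b = 1)
    (hab : a * b = b * a) (hna : ∀ h ∈ H, a * h * a ∈ H) (hnb : ∀ h ∈ H, b * h * b ∈ H) :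
    Nat.card H * Nat.card (H ⊓ Subgroup.centralizer {a} ⊓ Subgroup.centralizer {b} : Subgroup G) ^ 2 =
      Nat.card (H ⊓ Subgroup.centralizer {a} : Subgroup G) * Nat.card (H ⊓ Subgroup.centralizer {b} : Subgroup G) *
        Nat.card (H ⊓ Subgroup.centralizer {a * b} : Subgroup G) := by
  have hab2 : a * b * (a * b) = 1 := by
    calc a * b * (a * b) = a * b * (b * a) := by rw [hab]
      _ = a * (b * b) * a := by group
      _ = 1 := by rw [hb, mul_one, ha]
  have habc : ∀ j : G, a * b * j * (a * b) = a * (b * j * b) * a := fun j => by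
    calc a * b * j * (a * b) = a * b * j * (b * a) := by rw [hab]
      _ = _ := by group
  have habb : b * a = a * b := hab.symm
  have hodd' : ∀ {K : Subgroup G}, K ≤ H → Odd (Nat.card K) := fun hK =>
    hodd.of_dvd_nat (Subgroup.card_dvd_of_le hK)
  have stab : ∀ {c d : G}, c * c = 1 → d * d = 1 → c * d = d * c → (∀ h ∈ H, d * h * d ∈ H) →
      ∀ h ∈ H ⊓ Subgroup.centralizer {c}, d * h * d ∈ H ⊓ Subgroup.centralizer {c} := by
    intro c d hc hd hcd hnd h hh
    refine ⟨hnd h hh.1, (conj_fix_iff hc _).2 ?_⟩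
    calc c * (d * h * d) * c = (c * d) * h * (d * c) := by group
      _ = (d * c) * h * (c * d) := by rw [hcd]
      _ = d * (c * h * c) * d := by group
      _ = d * h * d := by rw [(conj_fix_iff hc h).1 hh.2]
  have h1 := card_eq_fix_mul_inverted hodd ha hna
  have h2 := card_inverted hodd ha hb hab hna hnb
  have h3 := card_eq_fix_mul_inverted (hodd' inf_le_left) ha (stab hb ha hab.symm hna)
    (H := H ⊓ Subgroup.centralizer {b})
  have h4 := card_eq_fix_mul_inverted (hodd' inf_le_left) ha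
    (stab hab2 ha (by rw [mul_assoc, habb]) hna) (H := H ⊓ Subgroup.centralizer {a * b})
  have e3 : Nat.card {j : G // j ∈ H ⊓ Subgroup.centralizer {b} ∧ a * j * a = j⁻¹}
      = Nat.card {j : G // j ∈ H ∧ a * j * a = j⁻¹ ∧ b * j * b = j} := by
    refine Nat.card_congr (Equiv.subtypeEquivRight fun j => ?_)
    rw [Subgroup.mem_inf, conj_fix_iff hb]; tauto
  have e4 : Nat.card {j : G // j ∈ H ⊓ Subgroup.centralizer {a * b} ∧ a * j * a = j⁻¹}
      = Nat.card {j : G // j ∈ H ∧ a * j * a = j⁻¹ ∧ b * j * b = j⁻¹} := by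
    refine Nat.card_congr (Equiv.subtypeEquivRight fun j => ?_)
    rw [Subgroup.mem_inf, conj_fix_iff hab2, habc]
    constructor
    · rintro ⟨⟨h, e⟩, hja⟩
      refine ⟨h, hja, ?_⟩
      have := congrArg (fun z => a * z * a) e
      simpa only [conj_conj ha, hja] using this
    · rintro ⟨h, hja, hjb⟩
      exact ⟨⟨h, by rw [hjb, conj_inv ha, hja, inv_inv]⟩, hja⟩
  have f3 : H ⊓ Subgroup.centralizer {b} ⊓ Subgroup.centralizer {a}
      = H ⊓ Subgroup.centralizer {a} ⊓ Subgroup.centralizer {b} := inf_right_comm _ _ _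
  have f4 : H ⊓ Subgroup.centralizer {a * b} ⊓ Subgroup.centralizer {a}
      = H ⊓ Subgroup.centralizer {a} ⊓ Subgroup.centralizer {b} := by
    ext j
    simp only [Subgroup.mem_inf, conj_fix_iff hab2, conj_fix_iff ha, conj_fix_iff hb, habc]
    constructor
    · rintro ⟨⟨h, e⟩, hja⟩
      refine ⟨⟨h, hja⟩, ?_⟩
      have := congrArg (fun z => a * z * a) e
      simpa only [conj_conj ha, hja] using this
    · rintro ⟨⟨h, hja⟩, hjb⟩
      exact ⟨⟨h, by rw [hjb, hja]⟩, hja⟩
  rw [e3, f3] at h3
  rw [e4, f4] at h4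
  rw [h1, h2, h3, h4]
  ring

end Cfsg.Lib.OddFour
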