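import Cfsg.Agent.OddFour.Basic

/-!
Four-transitive actions of even degree at least eight have four point stabilisers of even order.
-/

set_option autoImplicit false

namespace Cfsg.Lib.OddFour

open MulAction

variable {G : Type*} [Group G] [Finite G] {α : Type*} [MulAction G α] [Fintype α] [DecidableEq α]

theorem fixSet_eq_pair (hyp : Hyp G α) (hn : Even (Fintype.card α)) {a : G} (ha : a * a = 1) (hne : a ≠ 1)
    {u v : α} (huv : u ≠ v) (hu : a • u = u) (hv : a • v = v) : fixSet α a = {u, v} := by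
  have hsub : ({u, v} : Finset α) ⊆ fixSet α a := by simp [Finset.insert_subset_iff, mem_fixSet, hu, hv]
  refine (Finset.eq_of_subset_of_card_le hsub ?_).symm
  have h1 := hyp.card_fixSet_le ha hne
  have h2 := card_fixSet_mod (α := α) ha
  have h3 := Finset.card_le_card hsub
  rw [Finset.card_pair huv] at h3 ⊢
  rw [Nat.even_iff] at hn
  omega

theorem even_cover (hyp : Hyp G α) (hn : Even (Fintype.card α)) {X : Fin 4 → α} (hX : Function.Injective X)
    {a a' : G} (ha : a * a = 1) (ha' : a' * a' = 1) (haa : a' * a = a * a')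
    (e : ∀ i, a • X i = X (![1, 0, 2, 3] i)) (e' : ∀ i, a' • X i = X (![0, 1, 3, 2] i))
    {x x' : α} (hx : ∀ i, x ≠ X i) (hx' : ∀ i, x' ≠ X i) :
    x' ∈ orb (st G X ⊓ Subgroup.centralizer {a}) x ∨
      x' ∈ orb (st G X ⊓ Subgroup.centralizer {a}) (a' • x) := by
  have hne : a ≠ 1 := fun h => hX.ne (show (0 : Fin 4) ≠ 1 by decide) (by simpa [h] using e 0)
  have hF := fixSet_eq_pair hyp hn ha hne (hX.ne (show (2 : Fin 4) ≠ 3 by decide))
    (by simpa using e 2) (by simpa using e 3)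
  have hinv : ∀ z : α, a • a • z = z := fun z => by rw [← mul_smul, ha, one_smul]
  have hav : ∀ z : α, (∀ i, z ≠ X i) → (∀ i, a • z ≠ X i) ∧ z ≠ a • z := by
    intro z hz
    refine ⟨fun i h => hz (![1, 0, 2, 3] i) ?_, fun h => ?_⟩
    · rw [← e, ← h, hinv]
    · have := mem_fixSet.2 h.symm
      rw [hF, Finset.mem_insert, Finset.mem_singleton] at this
      rcases this with this | this <;> exact hz _ this
  obtain ⟨n1, n2⟩ := hav x hx
  obtain ⟨n1', n2'⟩ := hav x' hx'
  have h01 : X 0 ≠ X 1 := hX.ne (by decide)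
  obtain ⟨g, hg, hga⟩ := hyp.exists_intertwining (X := ![X 0, X 1, x, a • x]) (Y := ![X 0, X 1, x', a • x'])
    (inj4 h01 (hx 0).symm (n1 0).symm (hx 1).symm (n1 1).symm n2)
    (inj4 h01 (hx' 0).symm (n1' 0).symm (hx' 1).symm (n1' 1).symm n2') ha ha (σ := ![1, 0, 3, 2]) (by decide)
    (fun i => by fin_cases i <;> simp [e, hinv]) (fun i => by fin_cases i <;> simp [e, hinv])
  have g0 : g • X 0 = X 0 := hg 0
  have g1 : g • X 1 = X 1 := hg 1
  have g2 : g • x = x' := hg 2
  have hgF : ∀ i : Fin 4, a • X i = X i → g • X i = X 2 ∨ g • X i = X 3 := by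
    intro i hi
    have := mem_fixSet.2 (fix_of_comm hga hi)
    rwa [hF, Finset.mem_insert, Finset.mem_singleton] at this
  have hne23 : g • X 2 ≠ g • X 3 := (MulAction.injective g).ne (hX.ne (by decide))
  rcases hgF 2 (by simpa using e 2) with h2 | h2
  · left
    have h3 : g • X 3 = X 3 := (hgF 3 (by simpa using e 3)).resolve_left fun h => hne23 (h2.trans h.symm)
    exact mem_orb.2 ⟨g, ⟨mem_st.2 fun i => by fin_cases i <;> assumption,
      Subgroup.mem_centralizer_singleton_iff.2 hga⟩, g2⟩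
  · right
    have h3 : g • X 3 = X 2 := (hgF 3 (by simpa using e 3)).resolve_right fun h => hne23 (h2.trans h.symm)
    have hk : a' * g ∈ st G X ⊓ Subgroup.centralizer {a} := by
      refine ⟨mem_st.2 fun i => ?_, Subgroup.mem_centralizer_singleton_iff.2 ?_⟩
      · fin_cases i <;> simp [mul_smul, g0, g1, h2, h3, e']
      · rw [mul_assoc, hga, ← mul_assoc, haa, mul_assoc]
    refine mem_orb.2 ⟨a' * (a' * g) * a', ?_, ?_⟩
    · refine ⟨conj_mem_st ha' (fun i => ⟨_, e' i⟩) _ hk.1, (conj_fix_iff ha _).2 ?_⟩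
      calc a * (a' * (a' * g) * a') * a = (a * a') * (a' * g) * (a' * a) := by group
        _ = (a' * a) * (a' * g) * (a * a') := by rw [haa]
        _ = a' * (a * (a' * g) * a) * a' := by group
        _ = a' * (a' * g) * a' := by rw [(conj_fix_iff ha _).1 hk.2]
    · rw [mul_smul, ← mul_smul a' a', ha', one_smul, ← mul_assoc, ha', one_mul, g2]

theorem even_case (hyp : Hyp G α) (hn : Even (Fintype.card α)) (h8 : 8 ≤ Fintype.card α) : False := by
  classical
  obtain ⟨E⟩ := Function.Embedding.nonempty_of_card_le (α := Fin 4) (β := α) (by simp; omega)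
  set X : Fin 4 → α := ⇑E with hXdef
  have hX : Function.Injective X := E.injective
  obtain ⟨a, ha, -, e⟩ := hyp.exists_involution hX (a := (1 : G)) (one_mul 1) (σ := id) (τ := ![1, 0, 2, 3])
    (fun _ => rfl) (by decide) (fun _ => rfl) (fun i => one_smul _ _)
  obtain ⟨a', ha', haa, e'⟩ := hyp.exists_involution hX ha (τ := ![0, 1, 3, 2]) (by decide) (by decide)
    (by decide) e
  set H := st G X with hH
  have hodd : Odd (Nat.card H) := hyp.odd X hX
  have hne : a ≠ 1 := fun h => hX.ne (show (0 : Fin 4) ≠ 1 by decide) (by simpa [h] using e 0)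
  have hFa := fixSet_eq_pair hyp hn ha hne (hX.ne (show (2 : Fin 4) ≠ 3 by decide))
    (by simpa using e 2) (by simpa using e 3)
  have hna := conj_mem_st ha (fun i => ⟨_, e i⟩)
  have hna' := conj_mem_st ha' (fun i => ⟨_, e' i⟩)
  set C := H ⊓ Subgroup.centralizer {a} with hC
  set C' := H ⊓ Subgroup.centralizer {a'} with hC'
  set R : Finset α := Finset.univ \ Finset.univ.image X with hR
  have hmemR : ∀ {z}, z ∈ R ↔ ∀ i, z ≠ X i := fun {z} => by simp [hR, eq_comm]
  have hcR : R.card = Fintype.card α - 4 := by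
    rw [hR, Finset.card_sdiff_of_subset (Finset.subset_univ _), Finset.card_univ,
      Finset.card_image_of_injective _ hX, Finset.card_univ, Fintype.card_fin]
  have hHR : ∀ {u : α}, u ∈ R → orb H u ⊆ R := by
    intro u hu v hv
    obtain ⟨g, hg, rfl⟩ := mem_orb.1 hv
    exact hmemR.2 fun i h => hmemR.1 hu i (MulAction.injective g (show g • u = g • X i by rw [h, mem_st.1 hg i]))
  have hinR : ∀ {c : G} {τ : Fin 4 → Fin 4}, c * c = 1 → (∀ i, c • X i = X (τ i)) → ∀ {u}, u ∈ R → c • u ∈ R := by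
    intro c τ hc he u hu
    refine hmemR.2 fun i h => hmemR.1 hu (τ i) ?_
    rw [← he, ← h, ← mul_smul, hc, one_smul]
  have hfpf : ∀ u ∈ R, a • u ≠ u := by
    intro u hu h
    have := mem_fixSet.2 h
    rw [hFa, Finset.mem_insert, Finset.mem_singleton] at this
    rcases this with this | this <;> exact hmemR.1 hu _ this
  obtain ⟨x₀, hx₀⟩ := Finset.card_pos.1 (show 0 < R.card by omega)
  have hcov : ∀ u ∈ R, ∀ v ∈ R, v ∈ orb C u ∨ v ∈ orb C (a' • u) := fun u hu v hv =>
    even_cover hyp hn hX ha ha' haa e e' (hmemR.1 hu) (hmemR.1 hv)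
  have hcovH : ∀ u ∈ R, ∀ v ∈ R, v ∈ orb H u ∨ v ∈ orb H (a' • u) := fun u hu v hv =>
    (hcov u hu v hv).imp (fun h => orb_mono inf_le_left _ h) (fun h => orb_mono inf_le_left _ h)
  have hsep : ∀ u ∈ R, a' • u ∉ orb H u := by
    intro u hu h
    have h1 : orb H u = R := by
      refine Finset.Subset.antisymm (hHR hu) fun v hv => ?_
      rcases hcovH u hu v hv with h' | h'
      · exact h'
      · rwa [orb_eq_of_mem h] at h'
    have h2 := odd_card_orb hodd u
    rw [h1, hcR, Nat.odd_iff] at h2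
    rw [Nat.even_iff] at hn
    omega
  have hsepa : ∀ u ∈ R, a • u ∉ orb H u := by
    intro u hu h
    obtain ⟨v, hv, hav⟩ := exists_fixed_of_odd (odd_card_orb hodd u) ha fun v hv => by
      have := map_orb ha hna u hv
      rwa [orb_eq_of_mem h] at this
    exact hfpf v (hHR hu hv) hav
  set b := a * a' with hb
  have hb2 : b * b = 1 := by
    calc a * a' * (a * a') = a * (a' * a) * a' := by group
      _ = (a * a) * (a' * a') := by rw [haa, hb]; group
      _ = 1 := by rw [ha, ha', one_mul]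
  -- a common point of the two pairings
  obtain ⟨x, hxR, hbx⟩ : ∃ x ∈ R, b • x = x := by
    have h1 : orb H (a • x₀) = orb H (a' • x₀) := orb_eq_of_mem
      ((hcovH x₀ hx₀ _ (hinR ha e hx₀)).resolve_left (hsepa x₀ hx₀))
    obtain ⟨x, hx, hbx⟩ := exists_fixed_of_odd (odd_card_orb hodd x₀) hb2 fun v hv => by
      have h2 := map_orb ha' hna' x₀ hv
      rw [← h1] at h2
      have h3 := map_orb ha hna _ h2
      rwa [← mul_smul a a, ha, one_smul, ← mul_smul] at h3
    exact ⟨x, hHR hx₀ hx, hbx⟩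
  set y := a • x with hy
  have hax : a • y = x := by rw [hy, ← mul_smul, ha, one_smul]
  have ha'x : a' • x = y := by
    have := congrArg (a • ·) hbx
    simpa only [hb, ← mul_smul, ← mul_assoc, ha, one_mul, hy] using this
  have ha'y : a' • y = x := by rw [← ha'x, ← mul_smul, ha', one_smul]
  have hyR : y ∈ R := hinR ha e hxR
  set O := orb H x with hO
  set O' := orb H y with hO'
  have hyO : y ∉ O := hsepa x hxR
  have hdis : ∀ v ∈ O, v ∉ O' := fun v h h' => hyO (by
    rw [hO, ← orb_eq_of_mem h, orb_eq_of_mem h']; exact self_mem_orb _ _)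
  have hRO : ∀ v ∈ R, v ∈ O ∨ v ∈ O' := fun v hv => by
    have := hcovH x hxR v hv
    rwa [ha'x] at this
  have hOO' : O'.card = O.card := by
    refine Finset.card_bij' (fun v _ => a • v) (fun v _ => a • v) (fun v hv => ?_) (fun v hv => ?_)
      (fun v _ => by rw [← mul_smul, ha, one_smul]) (fun v _ => by rw [← mul_smul, ha, one_smul])
    · have := map_orb ha hna _ hv
      rwa [hax] at this
    · exact map_orb ha hna x hv
  have hCx : orb C x = O := by
    refine Finset.Subset.antisymm (orb_mono inf_le_left _) fun v hv => ?_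
    refine (hcov x hxR v (hHR hxR hv)).resolve_right fun h => hdis v hv ?_
    rw [ha'x] at h
    exact orb_mono inf_le_left _ h
  let X' : Fin 4 → α := fun i => X (![2, 3, 0, 1] i)
  have hX' : Function.Injective X' := hX.comp (by decide)
  have hst' : st G X' = H := by
    ext g
    rw [hH, mem_st, mem_st]
    exact ⟨fun h i => by fin_cases i; exacts [h 2, h 3, h 0, h 1],
      fun h i => h _⟩
  have hC'x : orb C' x = O := by
    refine Finset.Subset.antisymm (orb_mono inf_le_left _) fun v hv => ?_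
    have hvR := hHR hxR hv
    have := even_cover hyp hn hX' ha' ha haa.symm (fun i => by fin_cases i <;> simp [X', e'])
      (fun i => by fin_cases i <;> simp [X', e]) (x := x) (x' := v)
      (fun i => hmemR.1 hxR _) (fun i => hmemR.1 hvR _)
    rw [hst', ← hC', ← hy] at this
    exact this.resolve_right fun h => hdis v hv (orb_mono inf_le_left _ h)
  -- the stabiliser of the two common points
  set m := O.card with hm
  set M := H ⊓ stabilizer G x ⊓ stabilizer G y with hM
  have hbne : b ≠ 1 := fun h => hX.ne (show (0 : Fin 4) ≠ 1 by decide) (by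
    have := congrArg (fun g : G => g • X 0) h
    simpa [hb, mul_smul, e, e'] using this.symm)
  have hby : b • y = y := by rw [hb, mul_smul, ha'y]
  have hxy : x ≠ y := fun h => hfpf x hxR h.symm
  have hFb := fixSet_eq_pair hyp hn hb2 hbne hxy hbx hby
  have hLfix : ∀ g ∈ H ⊓ Subgroup.centralizer {b}, g • x = x ∧ g • y = y := by
    intro g hg
    have hgb := Subgroup.mem_centralizer_singleton_iff.1 hg.2
    have k1 := mem_fixSet.2 (fix_of_comm hgb hbx)
    have k2 := mem_fixSet.2 (fix_of_comm hgb hby)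
    rw [hFb, Finset.mem_insert, Finset.mem_singleton] at k1 k2
    exact ⟨k1.resolve_right fun h => hyO (h ▸ mem_orb.2 ⟨g, hg.1, rfl⟩),
      k2.resolve_left fun h => hdis x (self_mem_orb _ _) (h ▸ mem_orb.2 ⟨g, hg.1, rfl⟩)⟩
  have hfixa : ∀ g : G, g ∈ Subgroup.centralizer {a} → g • x = x → g • y = y := fun g hg h => by
    rw [hy, ← mul_smul, Subgroup.mem_centralizer_singleton_iff.1 hg, mul_smul, h]
  have hfixa' : ∀ g : G, g ∈ Subgroup.centralizer {a'} → g • x = x → g • y = y := fun g hg h => by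
    rw [← ha'x, ← mul_smul, Subgroup.mem_centralizer_singleton_iff.1 hg, mul_smul, h]
  have hnM : ∀ {c : G}, c * c = 1 → c • x = y → c • y = x → (∀ h ∈ H, c * h * c ∈ H) →
      ∀ h ∈ M, c * h * c ∈ M := by
    intro c hc cx cy hn' h hh
    refine ⟨⟨hn' h hh.1.1, ?_⟩, ?_⟩
    · show (c * h * c) • x = x
      rw [mul_smul, mul_smul, cx, show h • y = y from hh.2, cy]
    · show (c * h * c) • y = y
      rw [mul_smul, mul_smul, cy, show h • x = x from hh.1.2, cx]
  have q1 := card_four_group hodd ha ha' haa.symm hna hna'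
  have q2 := card_four_group (H := M) (hodd.of_dvd_nat (Subgroup.card_dvd_of_le (inf_le_left.trans inf_le_left)))
    ha ha' haa.symm (hnM ha rfl hax hna) (hnM ha' ha'x ha'y hna')
  have i1 : M ⊓ Subgroup.centralizer {a} = C ⊓ stabilizer G x := by
    ext g
    simp only [hM, hC, Subgroup.mem_inf, mem_stabilizer_iff]
    exact ⟨fun h => ⟨⟨h.1.1.1, h.2⟩, h.1.1.2⟩, fun h => ⟨⟨⟨h.1.1, h.2⟩, hfixa g h.1.2 h.2⟩, h.1.2⟩⟩
  have i2 : M ⊓ Subgroup.centralizer {a'} = C' ⊓ stabilizer G x := by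
    ext g
    simp only [hM, hC', Subgroup.mem_inf, mem_stabilizer_iff]
    exact ⟨fun h => ⟨⟨h.1.1.1, h.2⟩, h.1.1.2⟩, fun h => ⟨⟨⟨h.1.1, h.2⟩, hfixa' g h.1.2 h.2⟩, h.1.2⟩⟩
  have i3 : M ⊓ Subgroup.centralizer {b} = H ⊓ Subgroup.centralizer {b} := by
    refine le_antisymm (inf_le_inf_right _ (inf_le_left.trans inf_le_left)) fun g hg => ?_
    exact ⟨⟨⟨hg.1, (hLfix g hg).1⟩, (hLfix g hg).2⟩, hg.2⟩
  have i4 : C ⊓ stabilizer G x ⊓ Subgroup.centralizer {a'} = C ⊓ Subgroup.centralizer {a'} := by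
    refine le_antisymm (inf_le_inf_right _ inf_le_left) fun g hg => ⟨⟨hg.1, ?_⟩, hg.2⟩
    refine (hLfix g ⟨hg.1.1, Subgroup.mem_centralizer_singleton_iff.2 ?_⟩).1
    rw [hb, ← mul_assoc, Subgroup.mem_centralizer_singleton_iff.1 hg.1.2, mul_assoc,
      Subgroup.mem_centralizer_singleton_iff.1 hg.2, mul_assoc]
  rw [i1, i2, ← hb, i3, i4] at q2
  rw [← hC, ← hC', ← hb] at q1
  have c1 := card_orb C x
  have c2 := card_orb C' x
  rw [hCx] at c1
  rw [hC'x] at c2
  rw [← c1, ← c2] at q1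
  have hT : 0 < Nat.card (C ⊓ Subgroup.centralizer {a'} : Subgroup G) ^ 2 := pow_pos Nat.card_pos 2
  have hHM : Nat.card H = m * m * Nat.card M := by
    refine Nat.eq_of_mul_eq_mul_right hT ?_
    rw [q1, show m * m * Nat.card M * Nat.card (C ⊓ Subgroup.centralizer {a'} : Subgroup G) ^ 2
      = m * m * (Nat.card M * Nat.card (C ⊓ Subgroup.centralizer {a'} : Subgroup G) ^ 2) by ring, q2]
    ring
  have hpairs : ∀ v ∈ O', ∀ w ∈ O', ∃ h ∈ H, h • x = x ∧ h • v = w := by
    have c3 := card_orb H (x, y)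
    have i5 : H ⊓ stabilizer G (x, y) = M := by
      ext g
      simp only [hM, Subgroup.mem_inf, mem_stabilizer_iff, Prod.smul_mk, Prod.mk.injEq, and_assoc]
    rw [i5, hHM] at c3
    have h2 := Nat.eq_of_mul_eq_mul_right Nat.card_pos c3
    have h3 : orb H (x, y) = O ×ˢ O' := by
      refine Finset.eq_of_subset_of_card_le (fun z hz => ?_) (by rw [Finset.card_product, hOO', h2, hm])
      obtain ⟨g, hg, rfl⟩ := mem_orb.1 hz
      exact Finset.mem_product.2 ⟨mem_orb.2 ⟨g, hg, rfl⟩, mem_orb.2 ⟨g, hg, rfl⟩⟩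
    intro v hv w hw
    have k1 : (x, v) ∈ orb H (x, y) := by rw [h3]; exact Finset.mem_product.2 ⟨self_mem_orb _ _, hv⟩
    have k2 : (x, w) ∈ orb H (x, y) := by rw [h3]; exact Finset.mem_product.2 ⟨self_mem_orb _ _, hw⟩
    rw [← orb_eq_of_mem k1] at k2
    obtain ⟨g, hg, e⟩ := mem_orb.1 k2
    rw [Prod.smul_mk, Prod.mk.injEq] at e
    exact ⟨g, hg, e.1, e.2⟩
  -- the tournament of the stabiliser of three points
  set D := stabilizer G (X 0) ⊓ stabilizer G (X 1) ⊓ stabilizer G (X 2) with hD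
  have hDH : ∀ g, g ∈ H ↔ g ∈ D ∧ g • X 3 = X 3 := by
    intro g
    simp only [hH, mem_st, hD, Subgroup.mem_inf, mem_stabilizer_iff]
    exact ⟨fun h => ⟨⟨⟨h 0, h 1⟩, h 2⟩, h 3⟩, fun h i => by fin_cases i; exacts [h.1.1.1, h.1.1.2, h.1.2, h.2]⟩
  have hDodd : Odd (Nat.card D) := by
    have c := card_orb D (X 3)
    rw [show D ⊓ stabilizer G (X 3) = H by ext g; rw [hDH, Subgroup.mem_inf, mem_stabilizer_iff]] at c
    have hoD : orb D (X 3) = Finset.univ \ ({X 0, X 1, X 2} : Finset α) := by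
      ext v
      simp only [mem_orb, Finset.mem_sdiff, Finset.mem_univ, true_and, Finset.mem_insert, Finset.mem_singleton,
        not_or]
      constructor
      · rintro ⟨g, hg, rfl⟩
        simp only [hD, Subgroup.mem_inf, mem_stabilizer_iff] at hg
        refine ⟨fun h => ?_, fun h => ?_, fun h => ?_⟩
        · exact hX.ne (show (3 : Fin 4) ≠ 0 by decide) (MulAction.injective g (h.trans hg.1.1.symm))
        · exact hX.ne (show (3 : Fin 4) ≠ 1 by decide) (MulAction.injective g (h.trans hg.1.2.symm))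
        · exact hX.ne (show (3 : Fin 4) ≠ 2 by decide) (MulAction.injective g (h.trans hg.2.symm))
      · rintro ⟨h0, h1, h2⟩
        obtain ⟨g, hg⟩ := hyp.trans X ![X 0, X 1, X 2, v] hX
          (inj4 (hX.ne (by decide)) (hX.ne (by decide)) (Ne.symm h0) (hX.ne (by decide)) (Ne.symm h1) (Ne.symm h2))
        exact ⟨g, ⟨⟨hg 0, hg 1⟩, hg 2⟩, hg 3⟩
    rw [hoD, Finset.card_sdiff_of_subset (Finset.subset_univ _), Finset.card_univ,
      show ({X 0, X 1, X 2} : Finset α).card = 3 from Finset.card_eq_three.2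
        ⟨_, _, _, hX.ne (by decide), hX.ne (by decide), hX.ne (by decide), rfl⟩] at c
    rw [← c]
    refine Odd.mul ?_ hodd
    rw [Nat.odd_iff]
    rw [Nat.even_iff] at hn
    omega
  obtain ⟨g, hg⟩ := hyp.trans X ![X 0, X 1, X 2, x] hX
    (inj4 (hX.ne (by decide)) (hX.ne (by decide)) (hmemR.1 hxR 0).symm (hX.ne (by decide)) (hmemR.1 hxR 1).symm
      (hmemR.1 hxR 2).symm)
  have hgD : g ∈ D := ⟨⟨hg 0, hg 1⟩, hg 2⟩
  have hg3 : g • X 3 = x := hg 3
  have hgiD : g⁻¹ ∈ D := inv_mem hgD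
  have hin : ∀ {k : G}, k ∈ D → ∀ {z}, (∀ i, z ≠ X i) → k • z ≠ X 0 ∧ k • z ≠ X 1 ∧ k • z ≠ X 2 := by
    intro k hk z hz
    simp only [hD, Subgroup.mem_inf, mem_stabilizer_iff] at hk
    exact ⟨fun h => hz 0 (MulAction.injective k (h.trans hk.1.1.symm)),
      fun h => hz 1 (MulAction.injective k (h.trans hk.1.2.symm)),
      fun h => hz 2 (MulAction.injective k (h.trans hk.2.symm))⟩
  have hX3 : ∀ z ∈ O, g • z ≠ X 3 := by
    intro z hz h
    obtain ⟨k, hk, rfl⟩ := mem_orb.1 hz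
    obtain ⟨kD, k3⟩ := (hDH k).1 hk
    have := fix_of_swap hDodd (mul_mem hgD kD) (u := X 3) (v := x) (Or.inr (by rw [mul_smul, k3, hg3]))
      (Or.inl (by rw [mul_smul, h]))
    rw [mul_smul, k3, hg3] at this
    exact hmemR.1 hxR 3 this
  set T := O.image (g • ·) with hT'
  have hTc : T.card = O.card := Finset.card_image_of_injective _ (MulAction.injective g)
  have hTR : ∀ v ∈ T, v ∈ R ∧ v ≠ x := by
    intro v hv
    obtain ⟨z, hz, rfl⟩ := Finset.mem_image.1 hv
    have hzR := hmemR.1 (hHR hxR hz)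
    obtain ⟨n0, n1, n2⟩ := hin hgD hzR
    refine ⟨hmemR.2 fun i => by fin_cases i; exacts [n0, n1, n2, hX3 z hz], fun h => ?_⟩
    exact hzR 3 (MulAction.injective g (h.trans hg3.symm))
  have hTO : T = O' := by
    by_cases hmeet : ∃ v ∈ T, v ∈ O'
    · obtain ⟨v, hv, hv'⟩ := hmeet
      refine (Finset.eq_of_subset_of_card_le (fun w hw => ?_) (by rw [hTc, hOO'])).symm
      obtain ⟨k, hk, kx, kv⟩ := hpairs v hv' w hw
      obtain ⟨z, hz, rfl⟩ := Finset.mem_image.1 hv
      refine Finset.mem_image.2 ⟨(g⁻¹ * k * g) • z, ?_, by rw [mul_smul, mul_smul, smul_inv_smul, kv]⟩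
      have hkH : g⁻¹ * k * g ∈ H := (hDH _).2 ⟨mul_mem (mul_mem hgiD ((hDH k).1 hk).1) hgD, by
        rw [mul_smul, mul_smul, hg3, kx, inv_smul_eq_iff, hg3]⟩
      rw [hO, ← orb_eq_of_mem hz]
      exact mem_orb.2 ⟨_, hkH, rfl⟩
    · push Not at hmeet
      have hsub : T ⊆ O.erase x := fun v hv =>
        Finset.mem_erase.2 ⟨(hTR v hv).2, (hRO v (hTR v hv).1).resolve_right (hmeet v hv)⟩
      have := Finset.card_le_card hsub
      rw [hTc, Finset.card_erase_of_mem (show x ∈ O from self_mem_orb H x)] at this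
      have : 0 < O.card := Finset.card_pos.2 ⟨x, self_mem_orb _ _⟩
      omega
  have hinvO : ∀ u, (∀ i : Fin 3, u ≠ X i.castSucc) → u ≠ x → u ∉ T → g⁻¹ • u ∈ O' := by
    intro u hu hux huT
    have hz : g⁻¹ • u ∈ R := hmemR.2 fun i h => by
      rw [inv_smul_eq_iff] at h
      simp only [hD, Subgroup.mem_inf, mem_stabilizer_iff] at hgD
      fin_cases i
      exacts [hu 0 (h.trans hgD.1.1), hu 1 (h.trans hgD.1.2), hu 2 (h.trans hgD.2), hux (h.trans hg3)]
    exact (hRO _ hz).resolve_left fun h => huT (Finset.mem_image.2 ⟨_, h, smul_inv_smul g u⟩)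
  have hone : ∀ u ∈ O, u = x := by
    intro u hu
    by_contra hux
    have huR := hmemR.1 (hHR hxR hu)
    have h1 : g⁻¹ • u ∈ O' := hinvO u (fun i => huR _) hux (by rw [hTO]; exact hdis u hu)
    have h2 : g⁻¹ • X 3 ∈ O' := hinvO (X 3)
      (fun i => hX.ne (by intro h; have := congrArg Fin.val h; simp at this; omega))
      (Ne.symm (hmemR.1 hxR 3)) (fun h => hmemR.1 (hTR _ h).1 3 rfl)
    rw [hO', ← orb_eq_of_mem h2] at h1
    obtain ⟨k, hk, hke⟩ := mem_orb.1 h1
    -- `g * k * g⁻¹` fixes `x`, and `g * k * g⁻¹ * g⁻¹` moves the fourth point to `u`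
    obtain ⟨kD, k3⟩ := (hDH k).1 hk
    obtain ⟨l, hl, hle⟩ := mem_orb.1 hu
    obtain ⟨lD, l3⟩ := (hDH l).1 hl
    have hk' : (l * g)⁻¹ * (g * k * g⁻¹) ∈ D ∧ ((l * g)⁻¹ * (g * k * g⁻¹)) • (X 3) = X 3 := by
      refine ⟨mul_mem (inv_mem (mul_mem lD hgD)) (mul_mem (mul_mem hgD kD) hgiD), ?_⟩
      rw [mul_smul, mul_smul, mul_smul, hke, smul_inv_smul, inv_smul_eq_iff, mul_smul, hg3, hle]
    have k4 : (g * k * g⁻¹) • x = x := by
      rw [mul_smul, mul_smul, show g⁻¹ • x = X 3 by rw [inv_smul_eq_iff, hg3], k3, hg3]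
    have k5 : ((l * g)⁻¹ * (g * k * g⁻¹)) • x ∈ O := by
      rw [hO]; exact mem_orb.2 ⟨_, (hDH _).2 hk', rfl⟩
    rw [mul_smul, k4, mul_inv_rev, mul_smul] at k5
    have k6 : l⁻¹ • x ∈ T := Finset.mem_image.2 ⟨_, k5, smul_inv_smul g _⟩
    rw [hTO] at k6
    exact hdis _ (mem_orb.2 ⟨l⁻¹, inv_mem hl, rfl⟩) k6
  have hO1 : O.card ≤ 1 := Finset.card_le_one.2 fun u hu v hv => (hone u hu).trans (hone v hv).symm
  have h5 : R.card ≤ O.card + O'.card := (Finset.card_le_card fun v hv => Finset.mem_union.2 (hRO v hv)).trans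
    (Finset.card_union_le _ _)
  rw [hOO'] at h5
  omega

end Cfsg.Lib.OddFour
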