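import Cfsg.Agent.OddFour.Basic

/-!
Four-transitive actions of odd degree at least eight with four point stabilisers of odd order.
-/

set_option autoImplicit false

namespace Cfsg.Lib.OddFour

open MulAction

variable {G : Type*} [Group G] [Finite G] {α : Type*} [MulAction G α] [Fintype α] [DecidableEq α]

theorem fixSet_eq_triple (hyp : Hyp G α) (hn : Odd (Fintype.card α)) {a : G} (ha : a * a = 1) (hne : a ≠ 1)
    {u v w : α} (huv : u ≠ v) (huw : u ≠ w) (hvw : v ≠ w) (hu : a • u = u) (hv : a • v = v) (hw : a • w = w) :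
    fixSet α a = {u, v, w} := by
  have hsub : ({u, v, w} : Finset α) ⊆ fixSet α a := by simp [Finset.insert_subset_iff, mem_fixSet, hu, hv, hw]
  refine (Finset.eq_of_subset_of_card_le hsub ?_).symm
  rw [show ({u, v, w} : Finset α).card = 3 from Finset.card_eq_three.2 ⟨_, _, _, huv, huw, hvw, rfl⟩]
  exact hyp.card_fixSet_le ha hne

set_option maxHeartbeats 4000000 in
theorem odd_case [FaithfulSMul G α] (hyp : Hyp G α) (hn : Odd (Fintype.card α)) (h8 : 8 ≤ Fintype.card α) :
    Fintype.card α = 11 ∧ ∃ X : Fin 4 → α, Function.Injective X ∧ Nat.card (st G X) = 1 := by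
  classical
  obtain ⟨E⟩ := Function.Embedding.nonempty_of_card_le (α := Fin 4) (β := α) (by simp; omega)
  set X : Fin 4 → α := ⇑E with hXdef
  have hX : Function.Injective X := E.injective
  obtain ⟨a, ha, -, pa⟩ := hyp.exists_involution hX (a := (1 : G)) (one_mul 1) (σ := id) (τ := ![1, 0, 2, 3])
    (fun _ => rfl) (by decide) (fun _ => rfl) (fun i => one_smul _ _)
  obtain ⟨a', ha', haa, pa'⟩ := hyp.exists_involution hX ha (τ := ![0, 1, 3, 2]) (by decide) (by decide)
    (by decide) pa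
  set H := st G X with hH
  have hodd : Odd (Nat.card H) := hyp.odd X hX
  have h01 : X 0 ≠ X 1 := hX.ne (by decide)
  have h02 : X 0 ≠ X 2 := hX.ne (by decide)
  have h03 : X 0 ≠ X 3 := hX.ne (by decide)
  have h12 : X 1 ≠ X 2 := hX.ne (by decide)
  have h13 : X 1 ≠ X 3 := hX.ne (by decide)
  have h23 : X 2 ≠ X 3 := hX.ne (by decide)
  have hne : a ≠ 1 := fun h => h01 (by simpa [h] using pa 0)
  have hne' : a' ≠ 1 := fun h => h23 (by simpa [h] using pa' 2)
  have a0 : a • X 0 = X 1 := pa 0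
  have a1 : a • X 1 = X 0 := pa 1
  have a2 : a • X 2 = X 2 := pa 2
  have a3 : a • X 3 = X 3 := pa 3
  have a'0 : a' • X 0 = X 0 := pa' 0
  have a'1 : a' • X 1 = X 1 := pa' 1
  have a'2 : a' • X 2 = X 3 := pa' 2
  have a'3 : a' • X 3 = X 2 := pa' 3
  have hna := conj_mem_st ha (fun i => ⟨_, pa i⟩)
  have hna' := conj_mem_st ha' (fun i => ⟨_, pa' i⟩)
  -- the third fixed point
  have hF3 : (fixSet α a).card = 3 := by
    have h1 := hyp.card_fixSet_le ha hne
    have h2 := card_fixSet_mod (α := α) ha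
    have h3 : ({X 2, X 3} : Finset α).card ≤ (fixSet α a).card :=
      Finset.card_le_card (by simp [Finset.insert_subset_iff, mem_fixSet, a2, a3])
    rw [Finset.card_pair h23] at h3
    rw [Nat.odd_iff] at hn
    omega
  obtain ⟨e, heF, he2, he3⟩ : ∃ e ∈ fixSet α a, e ≠ X 2 ∧ e ≠ X 3 := by
    obtain ⟨e, he⟩ := Finset.card_pos.1 (show 0 < (((fixSet α a).erase (X 2)).erase (X 3)).card by
      rw [Finset.card_erase_of_mem (Finset.mem_erase.2 ⟨h23.symm, mem_fixSet.2 a3⟩),
        Finset.card_erase_of_mem (mem_fixSet.2 a2), hF3]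
      norm_num)
    obtain ⟨h1, h2⟩ := Finset.mem_erase.1 he
    obtain ⟨h3, h4⟩ := Finset.mem_erase.1 h2
    exact ⟨e, h4, h3, h1⟩
  have hae : a • e = e := mem_fixSet.1 heF
  have he0 : e ≠ X 0 := fun h => h01 (by rw [← a0, ← h, hae])
  have he1 : e ≠ X 1 := fun h => h01 (by rw [← a1, ← h, hae])
  have heX : ∀ i, e ≠ X i := fun i => by fin_cases i <;> assumption
  have hFa : fixSet α a = {X 2, X 3, e} := fixSet_eq_triple hyp hn ha hne h23 he2.symm he3.symm a2 a3 hae
  have memFa : ∀ {z : α}, a • z = z → z = X 2 ∨ z = X 3 ∨ z = e := fun {z} h => by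
    simpa [hFa] using mem_fixSet.2 h
  have ha'e : a' • e = e := by
    rcases memFa (fix_of_comm haa hae) with h | h | h
    · exact absurd (MulAction.injective a' (show a' • e = a' • X 3 by rw [h, a'3])) he3
    · exact absurd (MulAction.injective a' (show a' • e = a' • X 2 by rw [h, a'2])) he2
    · exact h
  have hFa' : fixSet α a' = {X 0, X 1, e} := fixSet_eq_triple hyp hn ha' hne' h01 he0.symm he1.symm a'0 a'1 ha'e
  -- the remaining points
  set R : Finset α := Finset.univ \ insert e (Finset.univ.image X) with hR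
  have hmemR : ∀ {z}, z ∈ R ↔ (∀ i, z ≠ X i) ∧ z ≠ e := fun {z} => by simp [hR, eq_comm, and_comm]
  have hcR : R.card + 5 = Fintype.card α := by
    have : (insert e (Finset.univ.image X)).card = 5 := by
      rw [Finset.card_insert_of_notMem (by simpa [eq_comm] using heX), Finset.card_image_of_injective _ hX,
        Finset.card_univ, Fintype.card_fin]
    rw [hR, Finset.card_sdiff_of_subset (Finset.subset_univ _), this, Finset.card_univ]
    omega
  have hfpf : ∀ u ∈ R, a • u ≠ u := by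
    intro u hu h
    rcases memFa h with h | h | h
    exacts [(hmemR.1 hu).1 _ h, (hmemR.1 hu).1 _ h, (hmemR.1 hu).2 h]
  have haR : ∀ u ∈ R, a • u ∈ R := by
    intro u hu
    have hi : a • a • u = u := by rw [← mul_smul, ha, one_smul]
    refine hmemR.2 ⟨fun i h => (hmemR.1 hu).1 _ (by rw [← hi, h, pa i]), fun h => (hmemR.1 hu).2 ?_⟩
    rw [← hi, h, hae]
  -- the centraliser fixing two points
  set Γ := stabilizer G (X 0) ⊓ stabilizer G (X 1) ⊓ Subgroup.centralizer {a} with hΓ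
  have memΓ : ∀ {g : G}, g ∈ Γ ↔ g • X 0 = X 0 ∧ g • X 1 = X 1 ∧ g * a = a * g := fun {g} => by
    simp [hΓ, Subgroup.mem_centralizer_singleton_iff, and_assoc]
  have hΓF : ∀ {g : G}, g ∈ Γ → ∀ {z : α}, a • z = z → a • g • z = g • z := fun {g} hg {z} hz => fix_of_comm (memΓ.1 hg).2.2 hz
  have hΓR : ∀ {g : G}, g ∈ Γ → ∀ {u : α}, u ∈ R → g • u ∈ R := by
    intro g hg u hu
    obtain ⟨g0, g1, -⟩ := memΓ.1 hg
    have hnot : a • (g • u) ≠ g • u := fun h => hfpf u hu (by
      have := hΓF (inv_mem hg) h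
      rwa [inv_smul_smul] at this)
    refine hmemR.2 ⟨fun i h => ?_, fun h => hnot (by rw [h, hae])⟩
    fin_cases i
    · exact (hmemR.1 hu).1 0 (MulAction.injective g (show g • u = g • X 0 from h.trans g0.symm))
    · exact (hmemR.1 hu).1 1 (MulAction.injective g (show g • u = g • X 1 from h.trans g1.symm))
    · exact hnot (by rw [h]; exact a2)
    · exact hnot (by rw [h]; exact a3)
  set C := H ⊓ Subgroup.centralizer {a} with hC
  set C' := H ⊓ Subgroup.centralizer {a'} with hC'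
  have memH : ∀ {g : G}, g ∈ H ↔ ∀ i, g • X i = X i := fun {g} => mem_st
  have hCΓ : C ≤ Γ := fun g hg => memΓ.2 ⟨memH.1 hg.1 0, memH.1 hg.1 1, Subgroup.mem_centralizer_singleton_iff.1 hg.2⟩
  have hCe : ∀ {g : G}, g ∈ C → g • e = e := by
    intro g hg
    rcases memFa (hΓF (hCΓ hg) hae) with h | h | h
    · exact absurd (MulAction.injective g (show g • e = g • X 2 by rw [h, memH.1 hg.1 2])) he2
    · exact absurd (MulAction.injective g (show g • e = g • X 3 by rw [h, memH.1 hg.1 3])) he3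
    · exact h
  have hCR : ∀ {u}, u ∈ R → orb C u ⊆ R := by
    intro u hu v hv
    obtain ⟨g, hg, rfl⟩ := mem_orb.1 hv
    exact hΓR (hCΓ hg) hu
  have hnC : ∀ γ ∈ Γ, ∀ c ∈ C, γ * c * γ⁻¹ ∈ C := by
    intro γ hγ c hc
    have h1 : γ * c * γ⁻¹ ∈ Γ := mul_mem (mul_mem hγ (hCΓ hc)) (inv_mem hγ)
    have hfix : ∀ {z : α}, a • z = z → (γ * c * γ⁻¹) • z = z := by
      intro z hz
      have hw := hΓF (inv_mem hγ) hz
      have : c • (γ⁻¹ • z) = γ⁻¹ • z := by
        rcases memFa hw with h | h | h <;> rw [h]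
        exacts [memH.1 hc.1 2, memH.1 hc.1 3, hCe hc]
      rw [mul_smul, mul_smul, this, smul_inv_smul]
    refine ⟨memH.2 fun i => ?_, h1.2⟩
    fin_cases i
    exacts [(memΓ.1 h1).1, (memΓ.1 h1).2.1, hfix a2, hfix a3]
  have htrans : ∀ u ∈ R, orb Γ u = R := by
    intro u hu
    refine Finset.Subset.antisymm (fun v hv => ?_) fun v hv => ?_
    · obtain ⟨g, hg, rfl⟩ := mem_orb.1 hv
      exact hΓR hg hu
    · have inj : ∀ {w}, w ∈ R → Function.Injective ![X 0, X 1, w, a • w] := fun {w} hw =>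
        inj4 h01 ((hmemR.1 hw).1 0).symm ((hmemR.1 (haR w hw)).1 0).symm ((hmemR.1 hw).1 1).symm
          ((hmemR.1 (haR w hw)).1 1).symm (hfpf w hw).symm
      have hi : ∀ z : α, a • a • z = z := fun z => by rw [← mul_smul, ha, one_smul]
      obtain ⟨g, hg, hga⟩ := hyp.exists_intertwining (inj hu) (inj hv) ha ha (σ := ![1, 0, 3, 2]) (by decide)
        (fun i => by fin_cases i <;> simp [a0, a1, hi]) (fun i => by fin_cases i <;> simp [a0, a1, hi])
      exact mem_orb.2 ⟨g, memΓ.2 ⟨hg 0, hg 1, hga⟩, hg 2⟩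
  have hFpairs : ∀ i j : α, a • i = i → a • j = j → i ≠ j → ∃ γ ∈ Γ, γ • X 2 = i ∧ γ • X 3 = j := by
    intro i j hi hj hij
    have k0 : ∀ {z : α}, a • z = z → z ≠ X 0 ∧ z ≠ X 1 := fun {z} hz =>
      ⟨fun h => h01 (by rw [← a0, ← h, hz]), fun h => h01 (by rw [← a1, ← h, hz])⟩
    obtain ⟨g, hg, hga⟩ := hyp.exists_intertwining hX
      (inj4 h01 (k0 hi).1.symm (k0 hj).1.symm (k0 hi).2.symm (k0 hj).2.symm hij) ha ha (σ := ![1, 0, 2, 3])
      (by decide) pa (fun k => by fin_cases k <;> simp [a0, a1, hi, hj])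
    exact ⟨g, memΓ.2 ⟨hg 0, hg 1, hga⟩, hg 2, hg 3⟩
  have hCpair : Γ ⊓ stabilizer G (X 2, X 3) = C := by
    ext g
    simp only [Subgroup.mem_inf, mem_stabilizer_iff, Prod.smul_mk, Prod.mk.injEq]
    constructor
    · rintro ⟨hg, h2, h3⟩
      exact ⟨memH.2 fun i => by fin_cases i; exacts [(memΓ.1 hg).1, (memΓ.1 hg).2.1, h2, h3], hg.2⟩
    · exact fun hg => ⟨hCΓ hg, memH.1 hg.1 2, memH.1 hg.1 3⟩
  have hΓ6 : Nat.card Γ = 6 * Nat.card C := by
    have c := card_orb Γ (X 2, X 3)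
    rw [hCpair] at c
    have : orb Γ (X 2, X 3) = (fixSet α a).offDiag := by
      ext ⟨i, j⟩
      simp only [mem_orb, Finset.mem_offDiag, mem_fixSet, Prod.smul_mk, Prod.mk.injEq]
      constructor
      · rintro ⟨g, hg, rfl, rfl⟩
        exact ⟨hΓF hg a2, hΓF hg a3, (MulAction.injective g).ne h23⟩
      · rintro ⟨hi, hj, hij⟩
        exact hFpairs i j hi hj hij
    rw [this, Finset.offDiag_card, hF3] at c
    omega
  -- a common point of the two pairings
  obtain ⟨x, hxR, ha'x⟩ : ∃ x ∈ R, a' • x = a • x := by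
    obtain ⟨u, hu⟩ := Finset.card_pos.1 (show 0 < R.card by omega)
    have hi : a • a • u = u := by rw [← mul_smul, ha, one_smul]
    obtain ⟨t, ht, hta, pt⟩ := hyp.exists_involution
      (inj4 h01 ((hmemR.1 hu).1 0).symm ((hmemR.1 (haR u hu)).1 0).symm ((hmemR.1 hu).1 1).symm
        ((hmemR.1 (haR u hu)).1 1).symm (hfpf u hu).symm) ha (σ := ![1, 0, 3, 2]) (τ := ![0, 1, 3, 2])
      (by decide) (by decide) (by decide) (fun i => by fin_cases i <;> simp [a0, a1, hi])
    have tu : t • u = a • u := pt 2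
    have htΓ : t ∈ Γ := memΓ.2 ⟨pt 0, pt 1, hta⟩
    obtain ⟨i, hi', hti⟩ : ∃ i, a • i = i ∧ t • i ≠ i := by
      by_contra hcon
      push Not at hcon
      have h1 : t = 1 := hyp.eq_one_of_fix_four hX ht fun k => by
        fin_cases k
        exacts [pt 0, pt 1, hcon _ a2, hcon _ a3]
      rw [h1, one_smul] at tu
      exact hfpf u hu tu.symm
    obtain ⟨γ, hγ, hγ2, hγ3⟩ := hFpairs i (t • i) hi' (hΓF htΓ hi') (Ne.symm hti)
    have htt : ∀ z : α, t • t • z = z := fun z => by rw [← mul_smul, ht, one_smul]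
    set t' := γ⁻¹ * t * γ with ht'
    have ht'2 : t' * t' = 1 := by
      calc γ⁻¹ * t * γ * (γ⁻¹ * t * γ) = γ⁻¹ * (t * t) * γ := by group
        _ = 1 := by rw [ht, mul_one, inv_mul_cancel]
    have ht'Γ : t' ∈ Γ := mul_mem (mul_mem (inv_mem hγ) htΓ) hγ
    obtain ⟨h, hh, hha, hht⟩ := hyp.exists_intertwining₂ hX hX ha ha ht'2 ha' (memΓ.1 ht'Γ).2.2.symm haa.symm
      (σ₁ := ![1, 0, 2, 3]) (σ₂ := ![0, 1, 3, 2]) (by decide) (by decide) pa pa
      (fun k => by
        fin_cases k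
        · exact (memΓ.1 ht'Γ).1
        · exact (memΓ.1 ht'Γ).2.1
        · show t' • X 2 = X 3
          rw [ht', mul_smul, mul_smul, hγ2, ← hγ3, inv_smul_smul]
        · show t' • X 3 = X 2
          rw [ht', mul_smul, mul_smul, hγ3, htt, ← hγ2, inv_smul_smul]) pa'
    have hhC : h ∈ C := ⟨memH.2 hh, Subgroup.mem_centralizer_singleton_iff.2 hha⟩
    refine ⟨h • γ⁻¹ • u, hΓR (hCΓ hhC) (hΓR (inv_mem hγ) hu), ?_⟩
    have hγa : γ⁻¹ * a = a * γ⁻¹ := (memΓ.1 (inv_mem hγ)).2.2
    calc a' • h • γ⁻¹ • u = (h * t') • γ⁻¹ • u := by rw [← mul_smul, ← hht]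
      _ = h • γ⁻¹ • t • u := by rw [ht', mul_smul, mul_smul, mul_smul, smul_inv_smul]
      _ = h • a • γ⁻¹ • u := by rw [tu, ← mul_smul γ⁻¹, hγa, mul_smul]
      _ = a • h • γ⁻¹ • u := by rw [← mul_smul h, hha, mul_smul]
  set y := a • x with hy
  have hax : a • y = x := by rw [hy, ← mul_smul, ha, one_smul]
  have ha'y : a' • y = x := by rw [← ha'x, ← mul_smul, ha', one_smul]
  have hyR : y ∈ R := haR x hxR
  have hxy : x ≠ y := (hfpf x hxR).symm
  have hxe : x ≠ e := (hmemR.1 hxR).2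
  have hye : y ≠ e := (hmemR.1 hyR).2
  set b := a * a' with hb
  have hb2 : b * b = 1 := by
    calc a * a' * (a * a') = a * (a' * a) * a' := by group
      _ = (a * a) * (a' * a') := by rw [haa, hb]; group
      _ = 1 := by rw [ha, ha', one_mul]
  have pb : ∀ i, b • X i = X (![1, 0, 3, 2] i) := fun i => by
    fin_cases i <;> simp [hb, mul_smul, a0, a1, a2, a3, a'0, a'1, a'2, a'3]
  have hbne : b ≠ 1 := fun h => h01 (by simpa [h] using pb 0)
  have hbx : b • x = x := by rw [hb, mul_smul, ha'x, hax]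
  have hby : b • y = y := by rw [hb, mul_smul, ha'y]
  have hbe : b • e = e := by rw [hb, mul_smul, ha'e, hae]
  have hnb := conj_mem_st hb2 (fun i => ⟨_, pb i⟩)
  have hFb : fixSet α b = {e, x, y} := fixSet_eq_triple hyp hn hb2 hbne hxe.symm hye.symm hxy hbe hbx hby
  have memFb : ∀ {z : α}, b • z = z → z = e ∨ z = x ∨ z = y := fun {z} h => by
    simpa [hFb] using mem_fixSet.2 h
  -- elements of `H` fixing `e` and permuting `e, x, y` fix `x` and `y`
  have hfix : ∀ {k : G}, k * k = 1 → k ≠ 1 → k • e = e → k • x = x → k • y = y →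
      ∀ g ∈ H, g * k = k * g → g • e = e → g • x = x ∧ g • y = y := by
    intro k hk hkne ke kx ky g hg hgk hge
    have hFk := fixSet_eq_triple hyp hn hk hkne hxe.symm hye.symm hxy ke kx ky
    have hmove : ∀ {z : α}, k • z = z → z ≠ e → g • z = x ∨ g • z = y := by
      intro z hz hze
      have := mem_fixSet.2 (fix_of_comm hgk hz)
      rw [hFk, Finset.mem_insert, Finset.mem_insert, Finset.mem_singleton] at this
      exact this.resolve_left fun h => hze (MulAction.injective g (show g • z = g • e by rw [h, hge]))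
    exact ⟨fix_of_swap hodd hg (hmove kx hxe) (hmove ky hye),
      fix_of_swap hodd hg (hmove ky hye).symm (hmove kx hxe).symm⟩
  set T := C ⊓ Subgroup.centralizer {a'} with hT
  set L := H ⊓ Subgroup.centralizer {b} with hL
  have hT0 : 0 < Nat.card T ^ 2 := pow_pos Nat.card_pos 2
  have q1 : Nat.card H * Nat.card T ^ 2 = Nat.card C * Nat.card C' * Nat.card L :=
    card_four_group hodd ha ha' haa.symm hna hna'
  -- the orbits of `C`
  set o := (orb C x).card with ho
  have ho_all : ∀ u ∈ R, (orb C u).card = o := by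
    intro u hu
    have := htrans x hxR
    rw [← this] at hu
    obtain ⟨γ, hγ, rfl⟩ := mem_orb.1 hu
    refine (Finset.card_bij' (fun v _ => γ • v) (fun v _ => γ⁻¹ • v) (fun v hv => ?_) (fun v hv => ?_)
      (fun v _ => inv_smul_smul γ v) (fun v _ => smul_inv_smul γ v)).symm
    · obtain ⟨c, hc, rfl⟩ := mem_orb.1 hv
      exact mem_orb.2 ⟨_, hnC γ hγ c hc, by rw [mul_smul, mul_smul, inv_smul_smul]⟩
    · obtain ⟨c, hc, rfl⟩ := mem_orb.1 hv
      refine mem_orb.2 ⟨γ⁻¹ * c * γ, ?_, by rw [mul_smul, mul_smul]⟩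
      simpa using hnC γ⁻¹ (inv_mem hγ) c hc
  -- the element exchanging the two pairs
  obtain ⟨g₂, hg₂, hg₂a⟩ := hyp.exists_intertwining hX
    (inj4 h23 h02.symm h12.symm h03.symm h13.symm h01) ha ha' (σ := ![1, 0, 2, 3]) (by decide) pa
    (fun i => by fin_cases i <;> simp [a'0, a'1, a'2, a'3])
  have hg₂e : g₂ • e = e := by
    have h2 : g₂ • X 2 = X 0 := hg₂ 2
    have h3 : g₂ • X 3 = X 1 := hg₂ 3
    have := mem_fixSet.2 (show a' • g₂ • e = g₂ • e by rw [← mul_smul, ← hg₂a, mul_smul, hae])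
    rw [hFa', Finset.mem_insert, Finset.mem_insert, Finset.mem_singleton] at this
    rcases this with h | h | h
    · exact absurd (MulAction.injective g₂ (h.trans h2.symm)) he2
    · exact absurd (MulAction.injective g₂ (h.trans h3.symm)) he3
    · exact h
  have hg₂H : ∀ h, g₂ * h * g₂⁻¹ ∈ H ↔ h ∈ H := by
    intro h
    have hinv : g₂⁻¹ • X 2 = X 0 ∧ g₂⁻¹ • X 3 = X 1 ∧ g₂⁻¹ • X 0 = X 2 ∧ g₂⁻¹ • X 1 = X 3 :=
      ⟨inv_smul_eq_iff.2 (hg₂ 0).symm, inv_smul_eq_iff.2 (hg₂ 1).symm, inv_smul_eq_iff.2 (hg₂ 2).symm,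
        inv_smul_eq_iff.2 (hg₂ 3).symm⟩
    simp only [memH, mul_smul]
    constructor
    · intro hh i
      refine MulAction.injective g₂ ?_
      fin_cases i
      · have := hh 2; rw [hinv.1] at this; exact this.trans (hg₂ 0).symm
      · have := hh 3; rw [hinv.2.1] at this; exact this.trans (hg₂ 1).symm
      · have := hh 0; rw [hinv.2.2.1] at this; exact this.trans (hg₂ 2).symm
      · have := hh 1; rw [hinv.2.2.2] at this; exact this.trans (hg₂ 3).symm
    · intro hh i
      rw [← eq_inv_smul_iff]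
      fin_cases i
      · show h • g₂⁻¹ • X 0 = g₂⁻¹ • X 0; rw [hinv.2.2.1]; exact hh 2
      · show h • g₂⁻¹ • X 1 = g₂⁻¹ • X 1; rw [hinv.2.2.2]; exact hh 3
      · show h • g₂⁻¹ • X 2 = g₂⁻¹ • X 2; rw [hinv.1]; exact hh 0
      · show h • g₂⁻¹ • X 3 = g₂⁻¹ • X 3; rw [hinv.2.1]; exact hh 1
  have hg₂C : ∀ h, g₂ * h * g₂⁻¹ ∈ C' ↔ h ∈ C := by
    intro h
    rw [hC', hC, Subgroup.mem_inf, Subgroup.mem_inf, hg₂H, Subgroup.mem_centralizer_singleton_iff,
      Subgroup.mem_centralizer_singleton_iff]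
    refine and_congr_right fun _ => ?_
    have hga : g₂⁻¹ * a' = a * g₂⁻¹ := by rw [inv_mul_eq_iff_eq_mul, ← mul_assoc, hg₂a, mul_inv_cancel_right]
    constructor
    · intro h'
      refine mul_left_cancel (a := g₂) (mul_right_cancel (b := g₂⁻¹) ?_)
      calc g₂ * (h * a) * g₂⁻¹ = g₂ * h * (g₂⁻¹ * a') := by rw [hga]; group
        _ = g₂ * h * g₂⁻¹ * a' := by group
        _ = a' * (g₂ * h * g₂⁻¹) := h'
        _ = (g₂ * a) * h * g₂⁻¹ := by rw [hg₂a]; group
        _ = g₂ * (a * h) * g₂⁻¹ := by group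
    · intro h'
      calc g₂ * h * g₂⁻¹ * a' = g₂ * h * (g₂⁻¹ * a') := by group
        _ = g₂ * (h * a) * g₂⁻¹ := by rw [hga]; group
        _ = (g₂ * a) * h * g₂⁻¹ := by rw [h']; group
        _ = a' * (g₂ * h * g₂⁻¹) := by rw [hg₂a]; group
  have hCC' : Nat.card C' = Nat.card C := Nat.card_congr
    { toFun := fun h => ⟨g₂⁻¹ * h.1 * g₂, (hg₂C _).1 (by
        rw [show g₂ * (g₂⁻¹ * h.1 * g₂) * g₂⁻¹ = h.1 by group]; exact h.2)⟩
      invFun := fun h => ⟨g₂ * h.1 * g₂⁻¹, (hg₂C _).2 h.2⟩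
      left_inv := fun h => Subtype.ext (show g₂ * (g₂⁻¹ * h.1 * g₂) * g₂⁻¹ = h.1 by group)
      right_inv := fun h => Subtype.ext (show g₂⁻¹ * (g₂ * h.1 * g₂⁻¹) * g₂ = h.1 by group) }
  have ho' : (orb C' x).card = o := by
    have hu : g₂⁻¹ • x ∈ R := by
      refine hmemR.2 ⟨fun i h => ?_, fun h => hxe (by rw [← hg₂e, ← h, smul_inv_smul])⟩
      rw [inv_smul_eq_iff, hg₂ i] at h
      fin_cases i <;> exact (hmemR.1 hxR).1 _ h
    rw [← ho_all _ hu]
    refine (Finset.card_bij' (fun v _ => g₂ • v) (fun v _ => g₂⁻¹ • v) (fun v hv => ?_) (fun v hv => ?_)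
      (fun v _ => inv_smul_smul g₂ v) (fun v _ => smul_inv_smul g₂ v)).symm
    · obtain ⟨c, hc, rfl⟩ := mem_orb.1 hv
      exact mem_orb.2 ⟨_, (hg₂C c).2 hc, by rw [mul_smul, mul_smul]⟩
    · obtain ⟨c, hc, rfl⟩ := mem_orb.1 hv
      refine mem_orb.2 ⟨g₂⁻¹ * c * g₂, (hg₂C _).1 ?_, by rw [mul_smul, mul_smul, smul_inv_smul]⟩
      rw [show g₂ * (g₂⁻¹ * c * g₂) * g₂⁻¹ = c by group]; exact hc
  -- the orbit of the pair of `X 2, X 3` under the stabiliser of `x`
  set Γx := Γ ⊓ stabilizer G x with hΓx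
  have hΓxodd : Odd (Nat.card Γx) := by
    refine (hyp.odd _ (inj4 h01 ((hmemR.1 hxR).1 0).symm ((hmemR.1 hyR).1 0).symm ((hmemR.1 hxR).1 1).symm
      ((hmemR.1 hyR).1 1).symm hxy)).of_dvd_nat (Subgroup.card_dvd_of_le fun g hg => mem_st.2 fun i => ?_)
    obtain ⟨g0, g1, hga⟩ := memΓ.1 hg.1
    have gx : g • x = x := hg.2
    fin_cases i
    · exact g0
    · exact g1
    · exact gx
    · show g • y = y
      rw [hy, ← mul_smul, hga, mul_smul, gx]
  set P := orb Γx (X 2, X 3) with hP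
  have hP3 : P.card ≤ 3 := by
    rw [← hF3]
    refine Finset.card_le_card_of_injOn Prod.fst (fun z hz => ?_) fun z hz w hw hzw => ?_
    · obtain ⟨g, hg, rfl⟩ := mem_orb.1 hz
      exact mem_fixSet.2 (hΓF hg.1 a2)
    · obtain ⟨g, hg, rfl⟩ := mem_orb.1 (Finset.mem_coe.1 hz)
      obtain ⟨k, hk, rfl⟩ := mem_orb.1 (Finset.mem_coe.1 hw)
      have e2 : g • X 2 = k • X 2 := hzw
      have hkg : k⁻¹ * g ∈ Γx := mul_mem (inv_mem hk) hg
      have k2 : (k⁻¹ * g) • X 2 = X 2 := by rw [mul_smul, e2, inv_smul_smul]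
      have hmove : ∀ {z : α}, a • z = z → z ≠ X 2 → (k⁻¹ * g) • z = X 3 ∨ (k⁻¹ * g) • z = e := fun {z} hz' hz2 =>
        (memFa (hΓF hkg.1 hz')).resolve_left fun h => hz2 (MulAction.injective (k⁻¹ * g) (h.trans k2.symm))
      have k3 := fix_of_swap hΓxodd hkg (hmove a3 h23.symm) (hmove hae he2)
      rw [mul_smul, inv_smul_eq_iff] at k3
      show (g • X 2, g • X 3) = (k • X 2, k • X 3)
      rw [e2, k3]
  have hPodd : P.card % 2 = 1 := Nat.odd_iff.1 (odd_card_orb hΓxodd _)
  have hΓxC : Γx ⊓ stabilizer G (X 2, X 3) = C ⊓ stabilizer G x := by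
    rw [hΓx, inf_right_comm, hCpair]
  have cC := card_orb C x
  rw [← ho] at cC
  have cC' := card_orb C' x
  rw [ho'] at cC'
  have cP := card_orb Γx (X 2, X 3)
  rw [← hP, hΓxC] at cP
  have cR := card_orb Γ x
  rw [htrans x hxR, ← hΓx, ← cP, hΓ6, ← cC] at cR
  have hR6 : R.card * P.card = 6 * o := Nat.eq_of_mul_eq_mul_right
    (Nat.card_pos (α := (C ⊓ stabilizer G x : Subgroup G))) (by linarith)
  have hopos : 1 ≤ o := Finset.card_pos.2 ⟨x, self_mem_orb _ _⟩
  by_cases ho1 : o = 1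
  · -- the sharply transitive case
    have hC1 : C = ⊥ := by
      refine (Subgroup.eq_bot_iff_forall _).2 fun g hg => eq_of_smul_eq_smul (α := α) fun z => ?_
      rw [one_smul]
      by_cases hz : ∀ i, z ≠ X i
      · by_cases hze : z = e
        · rw [hze, hCe hg]
        · have h1 := ho_all z (hmemR.2 ⟨hz, hze⟩)
          rw [ho1, Finset.card_eq_one] at h1
          obtain ⟨w, hw⟩ := h1
          have k1 := (mem_orb (K := C) (x := z) (y := g • z)).2 ⟨g, hg, rfl⟩
          have k2 := self_mem_orb C z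
          rw [hw, Finset.mem_singleton] at k1 k2
          rw [k1, ← k2]
      · push Not at hz
        obtain ⟨i, rfl⟩ := hz
        exact memH.1 hg.1 i
    have c1 : Nat.card C = 1 := by rw [hC1, Subgroup.card_bot]
    have hP1 : P.card = 1 ∧ R.card = 6 := by
      rw [ho1] at hR6
      rcases (show P.card = 1 ∨ P.card = 3 by omega) with h | h <;> rw [h] at hR6 <;> omega
    have cx : Nat.card (C ⊓ stabilizer G x : Subgroup G) = 1 := by
      rw [ho1, one_mul, c1] at cC; exact cC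
    have hΓx1 : Nat.card Γx = 1 := by rw [← cP, hP1.1, cx]
    obtain ⟨g₁, hg₁, hg₁b⟩ := hyp.exists_intertwining hX
      (inj4 h01 ((hmemR.1 hxR).1 0).symm ((hmemR.1 hyR).1 0).symm ((hmemR.1 hxR).1 1).symm
        ((hmemR.1 hyR).1 1).symm hxy) hb2 ha (σ := ![1, 0, 3, 2]) (by decide) pb
      (fun i => by fin_cases i <;> simp [a0, a1, hax, ← hy])
    have hL1 : L = ⊥ := by
      refine (Subgroup.eq_bot_iff_forall _).2 fun l hl => ?_
      have hmem : g₁ * l * g₁⁻¹ ∈ Γx := by
        have key : ∀ i, (g₁ * l * g₁⁻¹) • (g₁ • X i) = g₁ • X i := fun i => by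
          rw [mul_smul, mul_smul, inv_smul_smul, memH.1 hl.1 i]
        have hgb : g₁⁻¹ * a = b * g₁⁻¹ := by rw [inv_mul_eq_iff_eq_mul, ← mul_assoc, hg₁b, mul_inv_cancel_right]
        refine ⟨memΓ.2 ⟨?_, ?_, ?_⟩, ?_⟩
        · simpa [hg₁ 0] using key 0
        · simpa [hg₁ 1] using key 1
        · calc g₁ * l * g₁⁻¹ * a = g₁ * (l * b) * g₁⁻¹ := by rw [mul_assoc, hgb]; group
            _ = g₁ * (b * l) * g₁⁻¹ := by rw [Subgroup.mem_centralizer_singleton_iff.1 hl.2]
            _ = (g₁ * b) * l * g₁⁻¹ := by group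
            _ = a * (g₁ * l * g₁⁻¹) := by rw [hg₁b]; group
        · exact (by simpa [hg₁ 2] using key 2 : (g₁ * l * g₁⁻¹) • x = x)
      rw [Subgroup.card_eq_one.1 hΓx1, Subgroup.mem_bot] at hmem
      calc l = g₁⁻¹ * (g₁ * l * g₁⁻¹) * g₁ := by group
        _ = 1 := by rw [hmem]; group
    have hT1 : T = ⊥ := by rw [hT, hC1, bot_inf_eq]
    rw [hT1, hCC', c1, hL1, Subgroup.card_bot] at q1
    exact ⟨by omega, X, hX, by rw [← hH]; simpa using q1⟩
  exfalso
  have ho3 : 3 ≤ o := by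
    have hCodd : Odd (Nat.card C) := hodd.of_dvd_nat (Subgroup.card_dvd_of_le inf_le_left)
    have := Nat.odd_iff.1 (odd_card_orb hCodd x)
    rw [← ho] at this
    omega
  -- `H` fixes `e`
  have hC'e : ∀ {g : G}, g ∈ C' → g • e = e := by
    intro g hg
    have := mem_fixSet.2 (fix_of_comm (Subgroup.mem_centralizer_singleton_iff.1 hg.2) ha'e)
    rw [hFa', Finset.mem_insert, Finset.mem_insert, Finset.mem_singleton] at this
    rcases this with h | h | h
    · exact absurd (MulAction.injective g (show g • e = g • X 0 by rw [h, memH.1 hg.1 0])) he0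
    · exact absurd (MulAction.injective g (show g • e = g • X 1 by rw [h, memH.1 hg.1 1])) he1
    · exact h
  have hconj : ∀ {k : G} {u : α}, k * k = 1 → k • u = u → (∀ h ∈ H, k * h * k ∈ H) →
      ∀ h ∈ H ⊓ stabilizer G u, k * h * k ∈ H ⊓ stabilizer G u := by
    intro k u hk ku hn' h hh
    refine ⟨hn' h hh.1, ?_⟩
    show (k * h * k) • u = u
    rw [mul_smul, mul_smul, ku, show h • u = u from hh.2, ku]
  have hHe : ∀ g ∈ H, g • e = e := by
    have q2 := card_four_group (H := H ⊓ stabilizer G e) (hodd.of_dvd_nat (Subgroup.card_dvd_of_le inf_le_left))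
      ha ha' haa.symm (hconj ha hae hna) (hconj ha' ha'e hna')
    have i1 : H ⊓ stabilizer G e ⊓ Subgroup.centralizer {a} = C :=
      le_antisymm (inf_le_inf_right _ inf_le_left) fun g hg => ⟨⟨hg.1, hCe hg⟩, hg.2⟩
    have i2 : H ⊓ stabilizer G e ⊓ Subgroup.centralizer {a'} = C' :=
      le_antisymm (inf_le_inf_right _ inf_le_left) fun g hg => ⟨⟨hg.1, hC'e hg⟩, hg.2⟩
    have i3 : H ⊓ stabilizer G e ⊓ Subgroup.centralizer {b} = L ⊓ stabilizer G e := inf_right_comm _ _ _
    rw [i1, i2, ← hb, i3, ← hT] at q2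
    have c1 := card_orb H e
    have c2 := card_orb L e
    have hcards : (orb H e).card = (orb L e).card := by
      have k1 : 0 < Nat.card (L ⊓ stabilizer G e : Subgroup G) * (Nat.card C * Nat.card C') :=
        Nat.mul_pos Nat.card_pos (Nat.mul_pos Nat.card_pos Nat.card_pos)
      refine Nat.eq_of_mul_eq_mul_right k1 ?_
      calc (orb H e).card * (Nat.card (L ⊓ stabilizer G e : Subgroup G) * (Nat.card C * Nat.card C'))
          = (orb H e).card * Nat.card (H ⊓ stabilizer G e : Subgroup G) * Nat.card T ^ 2 := by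
            rw [mul_assoc, q2]; ring
        _ = Nat.card C * Nat.card C' * Nat.card L := by rw [c1, q1]
        _ = _ := by rw [← c2]; ring
    have heq : orb H e = orb L e :=
      (Finset.eq_of_subset_of_card_le (orb_mono inf_le_left e) hcards.le).symm
    have hsub : orb H e ⊆ {e, x, y} := by
      rw [heq]
      intro z hz
      obtain ⟨l, hl, rfl⟩ := mem_orb.1 hz
      rw [← hFb]
      exact mem_fixSet.2 (fix_of_comm (Subgroup.mem_centralizer_singleton_iff.1 hl.2) hbe)
    intro g hg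
    by_contra hge
    -- the orbit is then `{e, x, y}`, and `C` fixes `x`
    have hodd3 := Nat.odd_iff.1 (odd_card_orb hodd e)
    have h2 : ({e, g • e} : Finset α) ⊆ orb H e := by
      simp [Finset.insert_subset_iff, self_mem_orb, mem_orb.2 ⟨g, hg, rfl⟩]
    have h2c := Finset.card_le_card h2
    rw [Finset.card_pair (Ne.symm hge)] at h2c
    have h3 : ({e, x, y} : Finset α).card = 3 := Finset.card_eq_three.2 ⟨_, _, _, hxe.symm, hye.symm, hxy, rfl⟩
    have hall : orb H e = {e, x, y} := Finset.eq_of_subset_of_card_le hsub (by rw [h3]; omega)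
    refine ho1 (Finset.card_eq_one.2 ⟨x, Finset.eq_singleton_iff_unique_mem.2 ⟨self_mem_orb _ _, fun v hv => ?_⟩⟩)
    obtain ⟨c, hc, rfl⟩ := mem_orb.1 hv
    have hmove : ∀ {z}, z ∈ orb H e → z ≠ e → c • z = x ∨ c • z = y := by
      intro z hz hze
      have : c • z ∈ orb H e := by
        rw [← orb_eq_of_mem hz]; exact mem_orb.2 ⟨c, hc.1, rfl⟩
      rw [hall, Finset.mem_insert, Finset.mem_insert, Finset.mem_singleton] at this
      exact this.resolve_left fun h => hze (MulAction.injective c (h.trans (hCe hc).symm))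
    exact fix_of_swap hodd hc.1 (hmove (by simp [hall]) hxe) (hmove (by simp [hall]) hye)
  -- the stabiliser of `x` in `H` fixes `y`
  have hxy_fix : ∀ h ∈ H, h • x = x → h • y = y := by
    obtain ⟨g, hg, hga⟩ := hyp.exists_intertwining hX
      (inj4 h01 he0.symm ((hmemR.1 hxR).1 0).symm he1.symm ((hmemR.1 hxR).1 1).symm hxe.symm) ha hb2
      (σ := ![1, 0, 2, 3]) (by decide) pa
      (fun i => by fin_cases i <;> simp [hb, mul_smul, a0, a1, a'0, a'1, hae, ha'e, ha'x, hax])
    have g2 : g • X 2 = e := hg 2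
    have g3 : g • X 3 = x := hg 3
    have ge : g • e = y := by
      rcases memFb (show b • g • e = g • e by rw [← mul_smul, ← hga, mul_smul, hae]) with h | h | h
      · exact absurd (MulAction.injective g (h.trans g2.symm)) he2
      · exact absurd (MulAction.injective g (h.trans g3.symm)) he3
      · exact h
    intro h hh hhx
    have hk : g⁻¹ * h * g ∈ H := memH.2 fun i => by
      rw [mul_smul, mul_smul, inv_smul_eq_iff]
      fin_cases i
      · show h • g • X 0 = g • X 0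
        rw [show g • X 0 = X 0 from hg 0, memH.1 hh 0]
      · show h • g • X 1 = g • X 1
        rw [show g • X 1 = X 1 from hg 1, memH.1 hh 1]
      · show h • g • X 2 = g • X 2
        rw [g2, hHe h hh]
      · show h • g • X 3 = g • X 3
        rw [g3, hhx]
    have := hHe _ hk
    rwa [mul_smul, mul_smul, inv_smul_eq_iff, ge] at this
  set M := H ⊓ stabilizer G x with hM
  have hMy : ∀ h ∈ M, h • y = y := fun h hh => hxy_fix h hh.1 hh.2
  have hswap : ∀ {k : G}, k * k = 1 → k • x = y → (∀ h ∈ H, k * h * k ∈ H) → ∀ h ∈ M, k * h * k ∈ M := by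
    intro k hk kx hn' h hh
    refine ⟨hn' h hh.1, ?_⟩
    show (k * h * k) • x = x
    rw [mul_smul, mul_smul, kx, hMy h hh, ← kx, ← mul_smul, hk, one_smul]
  have hLx : L ≤ M := fun l hl => ⟨hl.1, (hfix hb2 hbne hbe hbx hby l hl.1
    (Subgroup.mem_centralizer_singleton_iff.1 hl.2) (hHe l hl.1)).1⟩
  have hTL : T ≤ L := fun g hg => by
    refine ⟨hg.1.1, Subgroup.mem_centralizer_singleton_iff.2 ?_⟩
    rw [hb, ← mul_assoc, Subgroup.mem_centralizer_singleton_iff.1 hg.1.2, mul_assoc,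
      Subgroup.mem_centralizer_singleton_iff.1 hg.2, mul_assoc]
  have q3 := card_four_group (H := M) (hodd.of_dvd_nat (Subgroup.card_dvd_of_le inf_le_left))
    ha ha' haa.symm (hswap ha rfl hna) (hswap ha' ha'x hna')
  have j1 : M ⊓ Subgroup.centralizer {a} = C ⊓ stabilizer G x := inf_right_comm _ _ _
  have j2 : M ⊓ Subgroup.centralizer {a'} = C' ⊓ stabilizer G x := inf_right_comm _ _ _
  have j3 : M ⊓ Subgroup.centralizer {b} = L :=
    le_antisymm (inf_le_inf_right _ inf_le_left) fun g hg => ⟨hLx hg, hg.2⟩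
  have j4 : C ⊓ stabilizer G x ⊓ Subgroup.centralizer {a'} = T :=
    le_antisymm (inf_le_inf_right _ inf_le_left) fun g hg => ⟨⟨hg.1, (hLx (hTL hg)).2⟩, hg.2⟩
  rw [j1, j2, ← hb, j3, j4] at q3
  rw [← cC, ← cC'] at q1
  have hHM : Nat.card H = o * o * Nat.card M := by
    refine Nat.eq_of_mul_eq_mul_right hT0 ?_
    rw [q1, show o * o * Nat.card M * Nat.card T ^ 2 = o * o * (Nat.card M * Nat.card T ^ 2) by ring, q3]
    ring
  have horb : ∀ v, v = x ∨ v = y → (orb H v).card = o * o := by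
    intro v hv
    have c := card_orb H v
    have hst : H ⊓ stabilizer G v = M := by
      rcases hv with rfl | rfl
      · rfl
      · refine le_antisymm (fun h hh => ⟨hh.1, ?_⟩) fun h hh => ⟨hh.1, hMy h hh⟩
        have := hxy_fix (a * h * a) (hna h hh.1) (by
          rw [mul_smul, mul_smul, ← hy, show h • y = y from hh.2, hax])
        rw [mul_smul, mul_smul, hax] at this
        show h • x = x
        have h2 := congrArg (a • ·) this
        simpa only [← mul_smul, ← mul_assoc, ha, one_mul, hax] using h2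
    rw [hst, hHM] at c
    exact Nat.eq_of_mul_eq_mul_right Nat.card_pos c
  have hHR : ∀ u ∈ R, orb H u ⊆ R := by
    intro u hu v hv
    obtain ⟨g, hg, rfl⟩ := mem_orb.1 hv
    refine hmemR.2 ⟨fun i h => (hmemR.1 hu).1 i (MulAction.injective g (h.trans (memH.1 hg i).symm)),
      fun h => (hmemR.1 hu).2 (MulAction.injective g (h.trans (hHe g hg).symm))⟩
  have hyO : y ∉ orb H x := by
    intro h
    obtain ⟨v, hv, hav⟩ := exists_fixed_of_odd (odd_card_orb hodd x) ha fun v hv => by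
      have := map_orb ha hna x hv
      rwa [← hy, orb_eq_of_mem h] at this
    exact hfpf v (hHR x hxR hv) hav
  have hdis : Disjoint (orb H x) (orb H y) := Finset.disjoint_left.2 fun v h h' => hyO (by
    rw [← orb_eq_of_mem h, orb_eq_of_mem h']; exact self_mem_orb _ _)
  have hle : (orb H x ∪ orb H y) ⊆ R := Finset.union_subset (hHR x hxR) (hHR y hyR)
  have hle' := Finset.card_le_card hle
  rw [Finset.card_union_of_disjoint hdis, horb x (Or.inl rfl), horb y (Or.inr rfl)] at hle'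
  have ho_eq : o = 3 := by
    have : 2 * (o * o) * 1 ≤ R.card * P.card :=
      Nat.mul_le_mul (by omega) (Finset.card_pos.2 ⟨_, self_mem_orb _ _⟩)
    rw [hR6] at this
    nlinarith
  have hcover : orb H x ∪ orb H y = R := by
    refine Finset.eq_of_subset_of_card_le hle ?_
    rw [Finset.card_union_of_disjoint hdis, horb x (Or.inl rfl), horb y (Or.inr rfl), ho_eq]
    have : R.card * 1 ≤ R.card * P.card := Nat.mul_le_mul le_rfl (Finset.card_pos.2 ⟨_, self_mem_orb _ _⟩)
    rw [hR6, ho_eq] at this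
    omega
  have hHfixed : ∀ z, (∀ h ∈ H, h • z = z) → (∀ i, z ≠ X i) → z = e := by
    intro z hz hzX
    by_contra hze
    have hzR := hmemR.2 ⟨hzX, hze⟩
    have h1 : (orb C z).card ≤ 1 := Finset.card_le_one.2 fun u hu v hv => by
      obtain ⟨g, hg, rfl⟩ := mem_orb.1 hu
      obtain ⟨k, hk, rfl⟩ := mem_orb.1 hv
      rw [hz g hg.1, hz k hk.1]
    rw [ho_all z hzR] at h1
    omega
  -- a second four group
  obtain ⟨c, hc, hcb, pc⟩ := hyp.exists_involution hX hb2 (σ := ![1, 0, 3, 2]) (τ := ![2, 3, 0, 1]) (by decide)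
    (by decide) (by decide) pb
  have c0 : c • X 0 = X 2 := pc 0
  have hnc := conj_mem_st hc (fun i => ⟨_, pc i⟩)
  have hcc : ∀ z : α, c • c • z = z := fun z => by rw [← mul_smul, hc, one_smul]
  have hce : c • e = e := by
    refine hHfixed _ (fun h hh => ?_) fun i hi => heX (![2, 3, 0, 1] i) (by rw [← pc i, ← hi, hcc])
    have := congrArg (c • ·) (hHe _ (hnc h hh))
    simp only [mul_smul, hcc] at this
    exact this
  obtain ⟨g, hg, hgb⟩ := hyp.exists_intertwining hX (inj4 h02 h01 h03 h12.symm h23 h13) hb2 hc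
    (σ := ![1, 0, 3, 2]) (by decide) pb (fun i => by fin_cases i; exacts [pc 0, pc 2, pc 1, pc 3])
  have hgX : ∀ i, ∃ j, g • X i = X j := fun i => by
    fin_cases i; exacts [⟨0, hg 0⟩, ⟨2, hg 1⟩, ⟨1, hg 2⟩, ⟨3, hg 3⟩]
  have hge : g • e = e := by
    refine hHfixed _ (fun h hh => ?_) fun i hi => ?_
    · have hk : g⁻¹ * h * g ∈ H := memH.2 fun i => by
        obtain ⟨j, hj⟩ := hgX i
        rw [mul_smul, mul_smul, hj, memH.1 hh j, ← hj, inv_smul_smul]
      have := hHe _ hk
      rwa [mul_smul, mul_smul, inv_smul_eq_iff] at this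
    · have hsurj : ∃ j, g • X j = X i := by
        fin_cases i; exacts [⟨0, hg 0⟩, ⟨2, hg 2⟩, ⟨1, hg 1⟩, ⟨3, hg 3⟩]
      obtain ⟨j, hj⟩ := hsurj
      exact heX j (MulAction.injective g (hi.trans hj.symm))
  have hz : c • g • x = g • x := by rw [← mul_smul, ← hgb, mul_smul, hbx]
  have hzR : g • x ∈ R := by
    refine hmemR.2 ⟨fun i hi => ?_, fun h => hxe (MulAction.injective g (h.trans hge.symm))⟩
    have hsurj : ∃ j, g • X j = X i := by
      fin_cases i; exacts [⟨0, hg 0⟩, ⟨2, hg 2⟩, ⟨1, hg 1⟩, ⟨3, hg 3⟩]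
    obtain ⟨j, hj⟩ := hsurj
    exact (hmemR.1 hxR).1 j (MulAction.injective g (hi.trans hj.symm))
  have hcxy : ∀ {v : α}, b • v = v → v ≠ e → c • v = x ∨ c • v = y := by
    intro v hv hve
    refine (memFb (fix_of_comm hcb hv)).resolve_left fun h => hve ?_
    rw [← hcc v, h, hce]
  have hcx : c • x = x := by
    have hmap : ∀ v, g • x ∈ orb H v → c • v ∈ orb H v := by
      intro v hv
      have := map_orb hc hnc _ (show v ∈ orb H (g • x) by rw [orb_eq_of_mem hv]; exact self_mem_orb _ _)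
      rwa [hz, orb_eq_of_mem hv] at this
    rw [← hcover, Finset.mem_union] at hzR
    rcases hzR with h | h
    · exact (hcxy hbx hxe).resolve_right fun h' => hyO (h' ▸ hmap x h)
    · have hy' : c • y = y := (hcxy hby hye).resolve_left fun h' =>
        Finset.disjoint_left.1 hdis (self_mem_orb _ _) (h' ▸ hmap y h)
      exact (hcxy hbx hxe).resolve_right fun h' => hxy (MulAction.injective c (h'.trans hy'.symm))
  have hcy : c • y = y :=
    (hcxy hby hye).resolve_left fun h' => hxy (MulAction.injective c (hcx.trans h'.symm))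
  have hcne : c ≠ 1 := fun h => h02 (by simpa [h] using c0)
  set d := b * c with hd
  have hd2 : d * d = 1 := by
    calc b * c * (b * c) = b * (c * b) * c := by group
      _ = (b * b) * (c * c) := by rw [hcb, hd]; group
      _ = 1 := by rw [hb2, hc, one_mul]
  have hdne : d ≠ 1 := fun h => h03 (by
    have : d • X 0 = X 3 := by rw [hd, mul_smul, c0]; exact pb 2
    rwa [h, one_smul] at this)
  have hfixM : ∀ {k : G}, k * k = 1 → k ≠ 1 → k • e = e → k • x = x → k • y = y →
      M ⊓ Subgroup.centralizer {k} = H ⊓ Subgroup.centralizer {k} := fun hk hkne ke kx ky =>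
    le_antisymm (inf_le_inf_right _ inf_le_left) fun l hl =>
      ⟨⟨hl.1, (hfix hk hkne ke kx ky l hl.1 (Subgroup.mem_centralizer_singleton_iff.1 hl.2) (hHe l hl.1)).1⟩, hl.2⟩
  have q4 := card_four_group hodd hb2 hc hcb.symm hnb hnc
  have q5 := card_four_group (H := M) (hodd.of_dvd_nat (Subgroup.card_dvd_of_le inf_le_left))
    hb2 hc hcb.symm (hconj hb2 hbx hnb) (hconj hc hcx hnc)
  rw [hfixM hb2 hbne hbe hbx hby, hfixM hc hcne hce hcx hcy, ← hd,
    hfixM hd2 hdne (by rw [hd, mul_smul, hce, hbe]) (by rw [hd, mul_smul, hcx, hbx])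
      (by rw [hd, mul_smul, hcy, hby]), ← q4] at q5
  have := Nat.eq_of_mul_eq_mul_right (pow_pos Nat.card_pos 2) q5
  rw [hHM, ho_eq] at this
  have hMpos : 0 < Nat.card M := Nat.card_pos
  omega

end Cfsg.Lib.OddFour
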